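import Cfsg.Agent.Lib.S6Q.RI
import Cfsg.Agent.Lib.S6Q.DK

/-!
# The degenerate case with a polar point: geometry
-/

set_option autoImplicit false

namespace Cfsg.Lib.S6Q

open scoped MatrixGroups Matrix commutatorElement
open QuadraticMap Module Cfsg.Lib.Orth Cfsg.Lib.Asch
open Cfsg.Lib.O7 (V W Q N I7 Spin phi act gam sU dm fx stabS stabV dgV)

variable {K : Type*} [Field K] [IsAlgClosed K] {M : Subgroup (O (Q K))} {a y b z s s' p u : V K} {g t : O (Q K)}
  {E : Type*} [Field E] [Fintype E]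

/-- The standing hypothesis. -/
structure Pd (M : Subgroup (O (Q K))) : Prop extends Ev M where
  dgn : Dgn M
  ex : ∃ a, Pol M a

omit [IsAlgClosed K] in
theorem Pol.ne (h : Pol M a) : a ≠ 0 := let ⟨_, _, l, _⟩ := h; l.1.ne

omit [IsAlgClosed K] in
theorem Pol.sing (h : Pol M a) : Q K a = 0 := let ⟨_, _, l, _⟩ := h; l.1.qa

omit [IsAlgClosed K] in
theorem dp_not (l : Ln a s) : s ∉ K ∙ a := fun m => by
  obtain ⟨c, e⟩ := Submodule.mem_span_singleton.1 m
  exact one_ne_zero (l.li (-c) 1 (by rw [← e]; module)).2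

omit [IsAlgClosed K] in
/-- Two points of a line span it. -/
theorem dp_ln (l : Ln b z) (hp : p ∈ ln b z) (hu : u ∈ ln b z) (p0 : p ≠ 0) (n : u ∉ K ∙ p) : ln p u = ln b z := by
  have l' : Ln p u := ⟨l.sing hp, l.sing hu, l.perp hp hu, fun c d e => by
    have d0 : d = 0 := by_contra fun d0 => n ((Submodule.smul_mem_iff _ d0).1
      (Submodule.mem_span_singleton.2 ⟨-c, by rw [neg_smul, neg_eq_iff_add_eq_zero, e]⟩))
    rw [d0, zero_smul, add_zero] at e
    exact ⟨(smul_eq_zero_iff_left p0).1 e, d0⟩⟩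
  exact Submodule.eq_of_le_of_finrank_eq (Submodule.span_le.2 (by rintro _ (rfl | rfl); exacts [hp, hu]))
    (l'.finrank.trans l.finrank.symm)

omit [IsAlgClosed K] in
theorem dp_of {X : Submodule K (V K)} (hu : u ∈ X) (u0 : u ≠ 0) (m : u ∈ K ∙ p) : p ∈ X := by
  obtain ⟨c, rfl⟩ := Submodule.mem_span_singleton.1 m
  exact (X.smul_mem_iff (left_ne_zero_of_smul u0)).1 hu

omit [IsAlgClosed K] in
theorem dp_tri (l : Ln a s) (l' : Ln a s') (k : B s s' ≠ 0) (hp : p ∈ ln a s) (hu : u ∈ ln a s') (e : B p u = 0) :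
    p ∈ K ∙ a ∨ u ∈ K ∙ a := by
  by_contra n
  rw [not_or] at n
  refine k (B_ln l'.p ?_ (dp_ln l (mem_ln_l _ _) hp l.ne n.1 ▸ mem_ln_r a s))
  rw [B_comm]
  exact B_ln (l.perp (mem_ln_l _ _) hp) ((B_comm _ _).trans e) (dp_ln l' (mem_ln_l _ _) hu l.ne n.2 ▸ mem_ln_r a s')

omit [IsAlgClosed K] in
/-- No triangles. -/
theorem dp_meet (m : DL M b z) (k : B s s' ≠ 0) (o : ln a s ⊓ ln b z ≠ ⊥) (o' : ln a s' ⊓ ln b z ≠ ⊥) (l : Ln a s)
    (l' : Ln a s') : a ∈ ln b z := by
  obtain ⟨v, hv, v0⟩ := Submodule.exists_mem_ne_zero_of_ne_bot o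
  obtain ⟨v', hv', v0'⟩ := Submodule.exists_mem_ne_zero_of_ne_bot o'
  exact (dp_tri l l' k hv.1 hv'.1 (m.1.perp hv.2 hv'.2)).elim (dp_of hv.2 v0) (dp_of hv'.2 v0')

theorem Pol.conj (h : Pol M a) (hg : g ∈ M) : Pol M (g.1 a) := by
  obtain ⟨s, s', l, l', e⟩ := h
  exact ⟨_, _, l.conj hg, l'.conj hg, by rwa [B, O.map_polar]⟩

theorem Pol.smul (h : Pol M a) {c : K} (hc : c ≠ 0) : Pol M (c • a) := by
  obtain ⟨s, s', l, l', e⟩ := h
  have k : ∀ {s}, DL M a s → DL M (c • a) (c⁻¹ • s) := fun l => ⟨(l.1.symm.smul hc).symm.smul (inv_ne_zero hc), by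
    rw [wd, eich_smul_left l.1.qa (l.1.smul (inv_ne_zero hc)).p, smul_smul, mul_inv_cancel₀ hc, one_smul]
    exact l.2⟩
  refine ⟨_, _, k l, k l', ?_⟩
  rw [geo_smul_l, geo_smul_r]
  exact mul_ne_zero (inv_ne_zero hc) (mul_ne_zero (inv_ne_zero hc) e)

namespace Pd

variable (h : Pd M)
include h

/-- The swap maps `p ∈ ℓ` to the point of the opposite line perpendicular to it. -/
theorem pol_opp (l : DL M a y) (l' : DL M b z) (k : kap a y b z ≠ 0) (hp : p ∈ ln a y) (q : Pol M p) (hu : u ∈ ln b z)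
    (u0 : u ≠ 0) (e : B p u = 0) : Pol M u := by
  obtain ⟨n, hn, -, -, h1, -⟩ := l.1.exists_swap h.two l'.1 k (h.fin_ord (M.mul_mem l.2 l'.2))
  have nM : n ∈ M := (Subgroup.closure_le M).2 (by rintro _ (rfl | rfl); exacts [l.2, l'.2]) hn
  have q' := q.conj nM
  by_cases m : u ∈ K ∙ n.1 p
  · obtain ⟨c, rfl⟩ := Submodule.mem_span_singleton.1 m
    exact q'.smul (left_ne_zero_of_smul u0)
  · have e1 := dp_ln l'.1 (h1 p hp).1 hu q'.ne m
    have e2 : ∀ v ∈ ln b z, B p v = 0 := fun v hv => by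
      rw [B_comm]
      exact B_ln ((B_comm _ _).trans (h1 p hp).2) ((B_comm _ _).trans e) (e1 ▸ hv)
    exact (q.ne ((kap_ne_iff l.1).1 k p hp (e2 _ (mem_ln_l _ _)) (e2 _ (mem_ln_r _ _)))).elim

theorem pol_top : Submodule.span K {p | Pol M p} = ⊤ := by
  obtain ⟨a, q⟩ := h.ex
  refine h.eq_top (fun g hg v hv => ?_) (Submodule.subset_span q) q.sing q.ne
  exact Submodule.span_le.2 (show _ ⊆ ((Submodule.span K {p | Pol M p}).comap (g.1 : V K →ₗ[K] V K) : Set (V K)) from
    fun p hp => Submodule.subset_span (Pol.conj hp hg)) hv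

theorem exists_pol (q : Pol M a) : ∃ b, Pol M b ∧ B a b ≠ 0 := by
  by_contra n
  obtain ⟨v, hv⟩ := geo_one h.two q.sing q.ne 1
  have : B a v = 0 := Submodule.span_le.2 (show _ ⊆ (LinearMap.ker ((Q K).polarBilin a) : Set (V K)) from
    fun p hp => by_contra fun e => n ⟨p, hp, e⟩) (h.pol_top ▸ trivial : v ∈ Submodule.span K {p | Pol M p})
  exact one_ne_zero (hv.symm.trans this)

/-- A line carries at least two polar points. -/
theorem one_pol (l : DL M a s) (H : ∀ p ∈ ln a s, Pol M p → p ∈ K ∙ a) : False := by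
  have U : ∀ {b z p}, DL M b z → p ∈ ln b z → Pol M b → Pol M p → b ∈ K ∙ p := fun {b z p} m hp qb qp => by
    obtain ⟨g, hg, -, e⟩ := h.trans m l
    obtain ⟨c, e1⟩ := Submodule.mem_span_singleton.1 (dp_of
      (H _ (e ▸ Submodule.mem_map_of_mem (mem_ln_l b z)) (qb.conj hg) |> fun m => (Submodule.span_singleton_le_iff_mem _ _).2
        (dp_of (Submodule.mem_span_singleton_self _) (qp.conj hg).ne (H _ (e ▸ Submodule.mem_map_of_mem hp) (qp.conj hg))) m)
      (qb.conj hg).ne (Submodule.mem_span_singleton_self _))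
    exact Submodule.mem_span_singleton.2 ⟨c, g.1.injective (by rw [map_smul]; exact e1)⟩
  obtain ⟨p, q⟩ := h.ex
  obtain ⟨b, qb, k⟩ := h.exists_pol q
  obtain ⟨r, -, o, -⟩ := id q
  obtain ⟨z, z', m, m', k'⟩ := id qb
  have op : ∀ {z}, DL M b z → ln b z ⊓ ln p r ≠ ⊥ := fun {z} m => (h.dgn _ _ _ _ m o).resolve_right fun k1 => by
    have hu : B p b • z - B p z • b ∈ ln b z :=
      sub_mem (Submodule.smul_mem _ _ (mem_ln_r _ _)) (Submodule.smul_mem _ _ (mem_ln_l _ _))
    have e : B p (B p b • z - B p z • b) = 0 := by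
      rw [sub_eq_add_neg, ← neg_smul, geo_add_r, geo_smul_r, geo_smul_r]; ring
    obtain ⟨c, e1⟩ := Submodule.mem_span_singleton.1 (U m hu qb (h.pol_opp o m (kap_comm.trans_ne k1) (mem_ln_l _ _) q hu
      (fun e0 => k (m.1.li (-B p z) (B p b) (by rw [← e0]; module)).2) e))
    exact k (by rw [← e1, geo_smul_r, e, mul_zero])
  exact k (o.1.perp (mem_ln_l _ _) (dp_meet o k' (op m) (op m') m.1 m'.1))

/-- If `a ∧ s`, `a ∧ s'` are coplanar then every line through another point of `ℓ = ⟨a, s⟩` meets `⟨a, s'⟩`, so lies in the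
plane: that point is not polar.  Then every line carries exactly one polar point (`Ev0.trans`), any two polar points are
perpendicular (opposite lines: `pol_opp`), and they span an invariant totally singular subspace. -/
theorem nocop (l : DL M a s) (l' : DL M a s') (e : B s s' = 0) : s' ∈ ln a s := by
  by_contra n
  refine h.one_pol l fun p hp q => by_contra fun m => ?_
  have pa : B p a = 0 := l.1.perp hp (mem_ln_l _ _)
  have ps : B p s' = 0 := B_ln l'.1.p e hp
  have k : ∀ {r}, DL M p r → ∃ v ∈ ln a s', r ∈ ln p v := fun {r} o => by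
    obtain ⟨v, hv, v0⟩ := Submodule.exists_mem_ne_zero_of_ne_bot
      ((h.dgn _ _ _ _ o l').resolve_right (by simp [kap, pa, ps]))
    refine ⟨v, hv.2, dp_ln o.1 (mem_ln_l _ _) hv.1 q.ne (fun m' => n ?_) ▸ mem_ln_r _ _⟩
    rw [← dp_ln l.1 (mem_ln_l _ _) hp l.1.ne m, dp_ln l'.1 (mem_ln_l _ _) (dp_of hv.2 v0 m') l.1.ne m]
    exact mem_ln_r _ _
  obtain ⟨r, r', o, o', e'⟩ := q
  obtain ⟨v, hv, hr⟩ := k o
  obtain ⟨v', hv', hr'⟩ := k o'
  have pv : B v p = 0 := B_ln ((B_comm _ _).trans pa) ((B_comm _ _).trans ps) hv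
  refine e' (B_ln o'.1.p ?_ hr)
  rw [B_comm]
  exact B_ln ((B_comm _ _).trans pv) (l'.1.perp hv' hv) hr'

/-- Same argument. -/
theorem two_pol (l : DL M a s) : ∃ b ∈ ln a s, b ∉ K ∙ a ∧ Pol M b := by
  by_contra n
  exact h.one_pol l fun p hp q => by_contra fun m => n ⟨p, hp, m, q⟩

/-- A point on a line is not perpendicular to another line not containing it. -/
theorem not_perp (l : DL M a s) (l' : DL M b z) (h1 : B a b = 0) (h3 : B a z = 0) : a ∈ ln b z := by
  obtain ⟨p, r, r', o, o', -, -, e, e'⟩ :=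
    l.common h.two l' ((h.dgn _ _ _ _ l l').resolve_right (by simp [kap, h1, h3]))
  have ha : a ∈ ln p r := e ▸ mem_ln_l _ _
  rw [← e']
  by_cases m : a ∈ K ∙ p
  · exact (Submodule.span_singleton_le_iff_mem _ _).2 (mem_ln_l _ _) m
  have e1 : B r' a = 0 := B_ln ((B_comm _ _).trans h1) ((B_comm _ _).trans h3) (e' ▸ mem_ln_r _ _)
  have e2 : B r r' = 0 := B_ln o'.1.p ((B_comm _ _).trans e1)
    (dp_ln o.1 (mem_ln_l _ _) ha o.1.ne m ▸ mem_ln_r _ _)
  rwa [dp_ln o.1 (mem_ln_l _ _) (h.nocop o o' e2) o.1.ne (dp_not o'.1)]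

theorem pol_perp (q : Pol M a) (l' : DL M b z) (n : a ∉ ln b z) (hu : u ∈ ln b z) (u0 : u ≠ 0) (e : B a u = 0) :
    Pol M u := by
  obtain ⟨s, s', l, m, k⟩ := id q
  rcases h.dgn _ _ _ _ l l' with o | o
  · rcases h.dgn _ _ _ _ m l' with o' | o'
    · exact (n (dp_meet l' k o o' l.1 m.1)).elim
    · exact h.pol_opp m l' o' (mem_ln_l _ _) q hu u0 e
  · exact h.pol_opp l l' o (mem_ln_l _ _) q hu u0 e

/-- Lines through two points of a line are opposite. -/
theorem opp (l : DL M a b) (m : DL M a s) (m' : DL M b u) (n : s ∉ ln a b) (n' : u ∉ ln a b) : kap a s b u ≠ 0 := by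
  have e1 : B a u ≠ 0 := fun e => n' (by
    have := h.nocop (⟨l.1.symm, l.1.swap h.two ▸ l.2⟩ : DL M b a) m' e
    rwa [ln, Set.pair_comm] at this)
  have e2 : B s b ≠ 0 := fun e => n (h.nocop l m ((B_comm _ _).trans e))
  rw [kap, l.1.p, zero_mul, zero_sub]
  exact neg_ne_zero.2 (mul_ne_zero e1 e2)

/-- The point of a line on `a` perpendicular to `b`. -/
theorem pt (q : Pol M b) (l : DL M a s) (k : B a b ≠ 0) : Pol M (B a b • s + B s b • a) ∧
    B a (B a b • s + B s b • a) = 0 ∧ B b (B a b • s + B s b • a) = 0 := by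
  have hu : B a b • s + B s b • a ∈ ln a s :=
    add_mem (Submodule.smul_mem _ _ (mem_ln_r _ _)) (Submodule.smul_mem _ _ (mem_ln_l _ _))
  have e : B b (B a b • s + B s b • a) = 0 := by
    rw [geo_add_r, geo_smul_r, geo_smul_r, B_comm b s, B_comm b a]; linear_combination B a b * B s b * h.two
  exact ⟨h.pol_perp q l (fun m => k (l.1.perp (mem_ln_l _ _) m)) hu
    (fun e0 => k (l.1.li _ _ ((add_comm _ _).trans e0)).2) e, l.1.perp (mem_ln_l _ _) hu, e⟩

/-- If perpendicular polar points are collinear (a generalized quadrangle) then the lines through `a` span `a^⊥`.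
Let `S(a) = ⟨a, s | a ∧ s ∈ D⟩`; for `B a b ≠ 0` the lines on `a` and on `b` correspond to the trace `T = a^⊥ ⊓ b^⊥` (polar
points), so `S(a) + b = S(b) + a =: S(a, b)`.  It contains every polar `b'`: clear if `b' ⟂ a` or `b`; otherwise each line on
`b'` has points `c ⟂ a`, `c' ⟂ b`, and `b' ∈ ⟨c, c'⟩` unless `b' ⟂ T`.  In that case take `c ∈ T`, `a₁ = (b ∧ c) a ∈ ⟨a, c⟩`;
`S(a₁, b) = S(a, b)`, and `b' ⟂ T(a, b), T(a₁, b)` would make `b'` perpendicular to another line on `b`.  So `S(a, b) = V`. -/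
theorem span (gq : ∀ a b, Pol M a → Pol M b → B a b = 0 → b ∉ K ∙ a → ∃ c : K, DL M a (c • b)) (q : Pol M a) {v : V K}
    (hv : B a v = 0) : v ∈ Submodule.span K (insert a {s | DL M a s}) := by
  let S : V K → Submodule K (V K) := fun a => Submodule.span K (insert a {s | DL M a s})
  have S0 : ∀ a, a ∈ S a := fun a => Submodule.subset_span (.inl rfl)
  have S1 : ∀ {a s}, DL M a s → s ∈ S a := fun l => Submodule.subset_span (.inr l)
  have ns : ∀ {a b c : V K}, B a b ≠ 0 → B a c = 0 → c ≠ 0 → c ∉ K ∙ b := fun k e c0 m => by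
    obtain ⟨x, rfl⟩ := Submodule.mem_span_singleton.1 m
    rw [geo_smul_r, mul_eq_zero, or_iff_left k] at e
    exact c0 (by rw [e, zero_smul])
  have LA : ∀ {a c}, Pol M a → Pol M c → B a c = 0 → c ∈ S a := fun {a c} qa qc e => by
    by_cases m : c ∈ K ∙ a
    · exact (Submodule.span_singleton_le_iff_mem _ _).2 (S0 a) m
    · obtain ⟨x, l⟩ := gq a c qa qc e m
      exact (Submodule.smul_mem_iff _ (left_ne_zero_of_smul l.1.symm.ne)).1 (S1 l)
  have LB : ∀ {a b}, Pol M b → B a b ≠ 0 → S a ≤ S b ⊔ K ∙ a := fun {a b} qb k => by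
    have ha : a ∈ S b ⊔ K ∙ a := Submodule.mem_sup_right (Submodule.mem_span_singleton_self a)
    refine Submodule.span_le.2 ?_
    rintro s (rfl | l)
    · exact ha
    · obtain ⟨o, -, o'⟩ := h.pt qb l k
      exact (Submodule.smul_mem_iff _ k).1 ((add_mem_cancel_right (Submodule.smul_mem _ _ ha)).1
        (Submodule.mem_sup_left (LA qb o o')))
  have LC : ∀ {a b b' s}, Pol M a → Pol M b → Pol M b' → B a b ≠ 0 → b' ∉ S b ⊔ K ∙ a → DL M a s → B b s = 0 →
      B b' s = 0 := fun {a b b' s} qa qb qb' k n l e => by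
    have k1 : B a b' ≠ 0 := fun e => n (LB qb k (LA qa qb' e))
    have k2 : B b' b ≠ 0 := fun e => n (Submodule.mem_sup_left (LA qb qb' ((B_comm _ _).trans e)))
    obtain ⟨o, o1, o2⟩ := h.pt qb' l k1
    obtain ⟨x, m⟩ := gq _ _ qb' o o2 (ns k1 o1 o.ne)
    obtain ⟨o', -, o3⟩ := h.pt qb m k2
    have := (add_mem_cancel_left (Submodule.smul_mem _ _ (Submodule.smul_mem _ x (LB qb k (LA qa o o1))))).1
      (Submodule.mem_sup_left (LA qb o' o3))
    have e1 := by_contra fun e1 => n ((Submodule.smul_mem_iff _ e1).1 this)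
    rw [geo_smul_l, geo_add_l, geo_smul_l, geo_smul_l, B_comm s b, e, mul_zero, zero_add, mul_eq_zero,
      or_iff_right (left_ne_zero_of_smul m.1.symm.ne), mul_eq_zero, or_iff_left k] at e1
    exact (B_comm _ _).trans e1
  have LD : ∀ {a b b'}, Pol M a → Pol M b → Pol M b' → B a b ≠ 0 → b' ∈ S b ⊔ K ∙ a := by
    intro a b b' qa qb qb' k
    by_contra n
    obtain ⟨r, r', l, l', e⟩ := id qb
    have k' : B b a ≠ 0 := by rwa [B_comm]
    obtain ⟨o, o1, o2⟩ := h.pt qa l' k'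
    obtain ⟨x, m⟩ := gq _ _ qa o o2 (ns k' o1 o.ne)
    have e1 : B b (x • (B b a • r' + B r' a • b)) = 0 := by rw [geo_smul_r, o1, mul_zero]
    have e2 := LC qa qb qb' k n m e1
    have gb : ∀ u, B b ((wd b r).1 u) = B b u := fun u =>
      (congrArg (B · _) (eich_apply_self l.1.qa l.1.p).symm).trans (O.map_polar (wd b r) b u)
    have e3 := LC (qa.conj l.2) qb qb' (by rwa [B_comm, gb]) (fun m' => n ?_) (m.conj l.2) ((gb _).trans e1)
    · rw [l.1.apply h.two, e1, zero_smul, add_zero, geo_add_r, e2, zero_add, geo_smul_r, geo_smul_r, geo_add_r,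
        geo_smul_r, geo_smul_r, l.1.symm.p, mul_zero, add_zero] at e3
      simp only [mul_eq_zero, left_ne_zero_of_smul m.1.symm.ne, k', e, false_or] at e3
      exact n (Submodule.mem_sup_left (LA qb qb' ((B_comm _ _).trans e3)))
    · refine (sup_le le_sup_left ((Submodule.span_singleton_le_iff_mem _ _).2 ?_) : _ ≤ S b ⊔ K ∙ a) m'
      rw [l.1.apply h.two]
      exact add_mem (add_mem (Submodule.mem_sup_right (Submodule.mem_span_singleton_self a))
        (Submodule.mem_sup_left (Submodule.smul_mem _ _ (S0 b)))) (Submodule.mem_sup_left (Submodule.smul_mem _ _ (S1 l)))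
  obtain ⟨b, qb, k⟩ := h.exists_pol q
  have top : v ∈ S a ⊔ K ∙ b := Submodule.span_le.2
    (show {p | Pol M p} ⊆ (S a ⊔ K ∙ b : Submodule K (V K)) from fun p qp => LD qb q qp (by rwa [B_comm]))
      (h.pol_top ▸ trivial)
  obtain ⟨w, hw, w', hw', rfl⟩ := Submodule.mem_sup.1 top
  have e1 : B a w = 0 := Submodule.span_le.2 (show _ ⊆ (LinearMap.ker ((Q K).polarBilin a) : Set (V K)) from by
    rintro s (rfl | l)
    exacts [geo_sing q.sing, l.1.p]) hw
  rw [geo_add_r, e1, zero_add] at hv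
  rwa [by_contra fun w0 => ns k hv w0 hw', add_zero]

/-- If all `B s s'` lie in `κ k` and `k s ⊆ M(a)`, five independent `s` (mod `a`) have an alternating Gram matrix over `k`
of odd size; a kernel vector over `k` gives `v ∈ M(a)`, `v ≡ c sU ≠ 0` mod `a`: `Ev.nb`. -/
theorem not_span (q : Pol M a) {k : Subfield K} {κ : K} (hk : ∀ s, DL M a s → ∀ c ∈ k, wd a (c • s) ∈ M)
    (e : ∀ s s', DL M a s → DL M a s' → κ * B s s' ∈ k) (k0 : κ ≠ 0) :
    ¬ ∀ v, B a v = 0 → v ∈ Submodule.span K (insert a {s | DL M a s}) := by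
  intro H
  have qa := q.sing
  obtain ⟨μ, w, hw, e0⟩ := Submodule.mem_span_insert.1 (H (sU K) ((B_comm _ _).trans (B_sU h.two a)))
  obtain ⟨n, x, s, rfl⟩ := Submodule.mem_span_set'.1 hw
  obtain ⟨b, hb⟩ := geo_one h.two qa q.ne 1
  let X := Submodule.span k (Set.range x)
  haveI : FiniteDimensional k X := FiniteDimensional.span_of_finite k (Set.finite_range x)
  let β := Module.finBasis k X
  let x' : Fin n → X := fun i => ⟨x i, Submodule.subset_span ⟨i, rfl⟩⟩
  have key : ∀ j, ∑ i, (β.repr (x' i) j : K) • (s i).1 ∈ K ∙ a := fun j => by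
    set v := ∑ i, (β.repr (x' i) j : K) • (s i).1 with hv
    have vM : v ∈ Ma M qa := sum_mem fun i _ =>
      ⟨by rw [geo_smul_r, (s i).2.1.p, mul_zero], hk _ (s i).2 _ (β.repr (x' i) j).2⟩
    have v1 : ∀ r, DL M a r → B r v = 0 := fun r l => by
      have e1 : ∑ i, (⟨_, e r _ l (s i).2⟩ : k) • x' i = 0 := Subtype.ext (by
        have := congrArg (fun u => κ * (Q K).polarBilin r u) e0
        simp only [map_add, map_sum, map_smul, polarBilin_apply_apply, smul_eq_mul] at this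
        rw [show polar (Q K) r (sU K) = 0 from (B_comm _ _).trans (B_sU h.two r),
          show polar (Q K) r a = 0 from l.1.symm.p, mul_zero, mul_zero, zero_add, Finset.mul_sum] at this
        rw [Submodule.coe_sum, Submodule.coe_zero, this]
        exact Finset.sum_congr rfl fun i _ => by change κ * B r (s i).1 * x i = _; ring)
      have e2 := congrArg (fun u => (β.repr u j : K)) e1
      simp only [map_sum, map_smul, map_zero, Finsupp.coe_finset_sum, Finset.sum_apply, Finsupp.smul_apply,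
        smul_eq_mul, Finsupp.zero_apply, Subfield.coe_zero] at e2
      refine mul_left_cancel₀ k0 ?_
      change κ * (Q K).polarBilin r v = _
      rw [mul_zero, ← e2, hv, map_sum, Finset.mul_sum]
      push_cast
      exact Finset.sum_congr rfl fun i _ => by rw [map_smul, polarBilin_apply_apply, smul_eq_mul]; ring
    have v2 : ∀ u, B a u = 0 → B v u = 0 := fun u hu =>
      Submodule.span_le.2 (show _ ⊆ (LinearMap.ker ((Q K).polarBilin v) : Set (V K)) from by
        rintro r (rfl | l)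
        exacts [(B_comm _ _).trans vM.1, (B_comm _ _).trans (v1 r l)]) (H u hu)
    obtain ⟨c, hc⟩ := Submodule.mem_span_singleton.1 (rad h.two (v := v + B v b • a) fun u => by
      have := v2 (u + B a u • b) (by rw [geo_add_r, geo_smul_r, hb]; linear_combination B a u * h.two)
      rw [geo_add_r, geo_smul_r] at this
      rw [geo_add_l, geo_smul_l]
      linear_combination this)
    obtain ⟨r, -, l, -⟩ := q
    have c0 := h.nb a r c l (by rw [hc, wd, eich_add_smul_self qa vM.1]; exact vM.2)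
    rw [c0, zero_smul, eq_comm, add_eq_zero_iff_eq_neg, ← neg_smul] at hc
    exact Submodule.mem_span_singleton.2 ⟨_, hc.symm⟩
  have e1 : ∑ i, x i • (s i).1 = ∑ j, (β j : K) • ∑ i, (β.repr (x' i) j : K) • (s i).1 := by
    simp only [Finset.smul_sum, smul_smul]
    rw [Finset.sum_comm]
    refine Finset.sum_congr rfl fun i _ => ?_
    rw [← Finset.sum_smul]
    congr 1
    have := congrArg Subtype.val (β.sum_repr (x' i))
    rw [Submodule.coe_sum] at this
    exact this.symm.trans (Finset.sum_congr rfl fun j _ => mul_comm _ _)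
  have : sU K ∈ K ∙ a := by
    rw [e0, e1]
    exact add_mem (Submodule.smul_mem _ _ (Submodule.mem_span_singleton_self a))
      (sum_mem fun j _ => Submodule.smul_mem _ _ (key j))
  obtain ⟨c, hc⟩ := Submodule.mem_span_singleton.1 this
  have := Q_sU (K := K)
  rw [← hc, Q_smul, qa, mul_zero] at this
  exact zero_ne_one this

/-- Transfer.  Let `T` be a Sylow `2`-subgroup containing two `a ∧ s₁`, `a ∧ s₂` on different lines.  Members of `D ⊓ T`
commute, so their lines meet pairwise and pass through `a` (no triangle); `T` fixes `a` (`fix_of_two`).  If `v ⟂ a` is fixed by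
`T` modulo `a`, `g v = v + χ(g) a` is additive with `χ (a ∧ s) = B s v`: `Ev0.transfer`. -/
theorem transfer (q : Pol M a) (H : ∀ T : Subgroup (O (Q K)), T ≤ M → IsPGroup 2 T → (∀ g ∈ T, g.1 a = a) →
    ∃ (v : V K) (c : K), c ≠ 0 ∧ (∀ g ∈ T, g.1 v - v ∈ K ∙ a) ∧ ∀ s, DL M a s → B s v = c) : False := by
  haveI := h.fin
  obtain ⟨s, s', l, l', k⟩ := id q
  let t : M := ⟨wd a s, l.2⟩
  let t' : M := ⟨wd a s', l'.2⟩
  have tt : t * t = 1 := Subtype.ext (wd_sq h.two _ _)
  have tt' : t' * t' = 1 := Subtype.ext (wd_sq h.two _ _)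
  have c : Commute t t' := Subtype.ext (eich_comm l.1.qa l.1.p l'.1.p)
  have pz : ∀ {x : M}, x * x = 1 → IsPGroup 2 (Subgroup.zpowers x) := fun {x} e => by
    rintro ⟨_, i, rfl⟩
    refine ⟨1, Subtype.ext ?_⟩
    change (x ^ i) ^ (2 ^ 1) = 1
    rw [← zpow_natCast, ← zpow_mul, mul_comm, zpow_mul, zpow_natCast, pow_one, pow_two, e, one_zpow]
  obtain ⟨T, hT⟩ := (IsPGroup.to_sup_of_normal_right' (pz tt) (pz tt') (by
    rw [Subgroup.zpowers_le]
    exact Subgroup.centralizer_le_normalizer _ (by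
      rintro _ ⟨i, rfl⟩
      exact (c.symm.zpow_left i).eq))).exists_le_sylow
  have tT : t ∈ T := hT (Subgroup.mem_sup_left (Subgroup.mem_zpowers _))
  have tT' : t' ∈ T := hT (Subgroup.mem_sup_right (Subgroup.mem_zpowers _))
  have two : ∀ x ∈ T, ∃ n, x.1 ^ 2 ^ n = 1 := fun x hx =>
    (T.2 ⟨x, hx⟩).imp fun n e => congrArg (fun y : T.1 => y.1.1) e
  have meet : ∀ {b z b' z'} (m : DL M b z) (m' : DL M b' z'), ⟨_, m.2⟩ ∈ T → ⟨_, m'.2⟩ ∈ T →
      ln b z ⊓ ln b' z' ≠ ⊥ := fun m m' i i' => (h.dgn _ _ _ _ m m').resolve_right fun k => by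
    obtain ⟨n, e⟩ := two _ (mul_mem i i')
    obtain ⟨o, nc⟩ := h.odd m m' k
    have e1 : wd _ _ * wd _ _ = 1 := orderOf_eq_one_iff.1 (Nat.eq_one_of_dvd_coprimes
      ((Nat.coprime_two_right.2 o).pow_right n) dvd_rfl (orderOf_dvd_of_pow_eq_one e))
    exact nc (by rw [eq_inv_of_mul_eq_one_left e1]; exact (Commute.refl _).inv_left)
  have on : ∀ {b z} (m : DL M b z), ⟨_, m.2⟩ ∈ T → a ∈ ln b z := fun m i =>
    dp_meet m k (meet l m tT i) (meet l' m tT' i) l.1 l'.1
  have fix : ∀ x ∈ T, x.1.1 a = a := fun x hx => by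
    have i : ∀ {s} (l : DL M a s), ⟨_, l.2⟩ ∈ T → a ∈ ln (x.1.1 a) (x.1.1 s) := fun l i => on (l.conj x.2) (by
      have := mul_mem (mul_mem hx i) (inv_mem hx)
      exact (Subtype.ext (conj_eich _ _ _) : x * ⟨_, l.2⟩ * x⁻¹ = ⟨_, _⟩) ▸ this)
    obtain ⟨n, e⟩ := two x hx
    exact fix_of_two h.two e (dp_of (Submodule.mem_span_singleton_self a) q.ne
      ((dp_tri (l.1.conj x.1) (l'.1.conj x.1) (by rwa [B, O.map_polar]) (i l tT) (i l' tT') (geo_sing q.sing)).elim
        id id))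
  obtain ⟨v, c, c0, hv, hc⟩ := H (T.1.map M.subtype) (Subgroup.map_subtype_le _) (T.2.map _)
    (by rintro _ ⟨x, hx, rfl⟩; exact fix x hx)
  choose χ hχ using fun x : T => Submodule.mem_span_singleton.1 (hv _ ⟨x.1, x.2, rfl⟩)
  have hχ' : ∀ x : T, x.1.1.1 v = v + χ x • a := fun x => by rw [hχ]; exact (add_sub_cancel _ _).symm
  have hm : ∀ x y : T, χ (x * y) = χ x + χ y := fun x y => by
    refine smul_left_injective K q.ne (add_left_cancel (a := v) ?_)
    change _ = v + (χ x + χ y) • a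
    rw [← hχ', add_smul, ← add_assoc, ← hχ']
    change x.1.1.1 (y.1.1.1 v) = _
    rw [hχ' y, map_add, map_smul, fix _ x.2]
  have hx : ∀ x : T, IsConj t x.1 → χ x = c := fun x hx => by
    obtain ⟨g, e⟩ := isConj_iff.1 hx
    have m := l.conj g.2
    have e0 : x.1.1 = wd (g.1.1 a) (g.1.1 s) := (congrArg Subtype.val e).symm.trans (conj_eich _ _ _)
    have e1 : x.1 = ⟨_, m.2⟩ := Subtype.ext e0
    obtain ⟨r, o, e2, -⟩ := m.1.exists_basis h.two (on m (e1 ▸ x.2)) q.ne
    have e3 := hχ' x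
    rw [e0, ← e2, o.apply h.two, add_assoc, add_right_inj, hc r ⟨o, e2 ▸ m.2⟩] at e3
    exact (sub_eq_zero.1 (o.li (c - χ x) (B a v) (by rw [sub_smul, ← e3]; abel)).1).symm
  exact h.toEv0.transfer T (MonoidHom.mk' (fun x => Multiplicative.ofAdd (χ x)) fun x y => congrArg _ (hm x y)) tt
    (fun e => l.1.ne_one h.two (congrArg Subtype.val e)) c0 fun x e => congrArg Multiplicative.ofAdd (hx x e)

end Pd

end Cfsg.Lib.S6Q
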