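import Cfsg.Agent.Lib.S6Q.DP

/-!
# The degenerate case with a polar point: the end
-/

set_option autoImplicit false
set_option linter.unusedSectionVars false

namespace Cfsg.Lib.S6Q

open scoped MatrixGroups Matrix commutatorElement
open QuadraticMap Module Cfsg.Lib.Orth Cfsg.Lib.Asch
open Cfsg.Lib.O7 (V W Q N I7 Spin phi act gam sU dm fx stabS stabV dgV)

variable {K : Type*} [Field K] [IsAlgClosed K] {M : Subgroup (O (Q K))} {a y b z s s' p u : V K} {g : O (Q K)}
  {E : Type*} [Field E] [Fintype E]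

namespace Pd

variable (h : Pd M)
include h

omit h [IsAlgClosed K] in
theorem _root_.Cfsg.Lib.S6Q.DL.congr (l : DL M a s) (e : s' - s ∈ K ∙ a) : DL M a s' := by
  obtain ⟨c, hc⟩ := Submodule.mem_span_singleton.1 e
  rw [← add_sub_cancel s s', ← hc]
  exact ⟨l.1.add c, by rw [wd, eich_add_smul_self l.1.qa l.1.p]; exact l.2⟩

omit h [IsAlgClosed K] in
theorem ma_conj (ha : Q K a = 0) (hg : g ∈ M) {t : K} (e : g.1 a = t • a) (hy : y ∈ Ma M ha) :
    t • g.1 y ∈ Ma M ha := by
  have k : t * B a (g.1 y) = 0 := by rw [← geo_smul_l, ← e]; exact (O.map_polar g _ _).trans hy.1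
  refine ⟨by rw [geo_smul_r, k], ?_⟩
  have t0 : t ≠ 0 ∨ a = 0 := by
    rw [or_iff_not_imp_left, not_not]
    rintro rfl
    rw [zero_smul] at e
    exact g.1.map_eq_zero_iff.1 e
  rcases t0 with t0 | rfl
  · rw [wd, ← eich_smul_left ha ((mul_eq_zero.1 k).resolve_left t0), ← e, ← conj_eich]
    exact M.mul_mem (M.mul_mem hg hy.2) (M.inv_mem hg)
  · simp

omit h [IsAlgClosed K] in
theorem dl_conj (l : DL M a s) (hg : g ∈ M) {t : K} (e : g.1 a = t • a) : DL M a (t • g.1 s) := by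
  have t0 : t ≠ 0 := by
    rintro rfl
    exact O.apply_ne_zero g l.1.ne (e.trans (zero_smul _ _))
  refine ⟨?_, (ma_conj l.1.qa hg e ⟨l.1.p, l.2⟩).2⟩
  have := ((l.1.conj g).symm.smul (inv_ne_zero t0)).symm
  rw [e, inv_smul_smul₀ t0] at this
  exact this.smul t0

omit h [IsAlgClosed K] in
theorem B_span (e : y ∈ K ∙ a) (hv : B a u = 0) : B y u = 0 := by
  obtain ⟨c, rfl⟩ := Submodule.mem_span_singleton.1 e
  rw [geo_smul_l, hv, mul_zero]

omit h [IsAlgClosed K] in
theorem B_congr (e : s' - s ∈ K ∙ a) (hv : B a u = 0) : B s' u = B s u := by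
  rw [← add_sub_cancel s s', geo_add_l, B_span e hv, add_zero]

omit h [IsAlgClosed K] in
theorem ln_mk (ha : Q K a = 0) (hb : Q K b = 0) (e : B a b = 0) (a0 : a ≠ 0) (n : b ∉ K ∙ a) : Ln a b :=
  ⟨ha, hb, e, fun x y hxy => by
    have y0 : y = 0 := by_contra fun y0 => n (Submodule.mem_span_singleton.2 ⟨-(y⁻¹ * x), by
      rw [← inv_smul_smul₀ y0 b, eq_neg_of_add_eq_zero_right hxy, smul_neg, smul_smul, neg_smul]⟩)
    rw [y0, zero_smul, add_zero] at hxy
    exact ⟨(smul_eq_zero.1 hxy).resolve_right a0, y0⟩⟩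

omit h [IsAlgClosed K] in
theorem col (hb : b ∈ ln a s) (n : b ∉ K ∙ a) : ∃ c : K, c ≠ 0 ∧ c • b - s ∈ K ∙ a := by
  obtain ⟨x, y, rfl⟩ := Submodule.mem_span_pair.1 hb
  have y0 : y ≠ 0 := by
    rintro rfl
    exact n (Submodule.mem_span_singleton.2 ⟨x, by simp⟩)
  exact ⟨y⁻¹, inv_ne_zero y0, Submodule.mem_span_singleton.2 ⟨y⁻¹ * x, by
    rw [smul_add, inv_smul_smul₀ y0, add_sub_cancel_right, smul_smul]⟩⟩

/-- A second polar point and a second line on it. -/
theorem second (l : DL M a s) : ∃ b u, b - s ∈ K ∙ a ∧ DL M a b ∧ DL M b u ∧ u ∉ ln a b ∧ B a u ≠ 0 := by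
  obtain ⟨b, hb, n, q⟩ := h.two_pol l
  obtain ⟨c, c0, e⟩ := col hb n
  have l' := l.congr e
  obtain ⟨u, m, nu⟩ : ∃ u, DL M (c • b) u ∧ u ∉ ln a (c • b) := by
    obtain ⟨u, u', m, m', p⟩ := q.smul c0
    by_contra! k
    exact p (l'.1.perp (k _ m) (k _ m'))
  refine ⟨_, u, e, l', m, nu, fun e' => nu ?_⟩
  obtain ⟨x, y, k⟩ := Submodule.mem_span_pair.1 (h.not_perp l' m l'.1.p e')
  have y0 : y ≠ 0 := by
    rintro rfl
    exact one_ne_zero (l'.1.li 1 (-x) (by rw [← k]; module)).1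
  exact Submodule.mem_span_pair.2 ⟨y⁻¹, -(y⁻¹ * x), by
    rw [← k, smul_add, inv_smul_smul₀ y0, smul_smul y⁻¹ x]; module⟩

/-- Perpendicular, not collinear. -/
theorem far (l : DL M a s) (m : DL M b u) (e : B a b = 0) (n : b ∉ K ∙ a) (nc : ¬ ∃ c : K, DL M a (c • b)) :
    B a u ≠ 0 ∧ kap a s b u ≠ 0 := by
  have k : ∀ s, DL M a s → b ∉ ln a s := fun s l hb => by
    obtain ⟨c, -, e⟩ := col hb n
    exact nc ⟨c, l.congr e⟩
  have au : B a u ≠ 0 := fun e' => by
    obtain ⟨s, l', e1, e2⟩ := m.1.exists_basis h.two (h.not_perp l m e e') l.1.ne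
    exact k s ⟨l', e1 ▸ m.2⟩ (e2 ▸ geo_left b u)
  refine ⟨au, (h.dgn _ _ _ _ l m).resolve_left fun i => ?_⟩
  obtain ⟨p, ⟨p1, p2⟩, p0⟩ := Submodule.exists_mem_ne_zero_of_ne_bot i
  obtain ⟨x, y, rfl⟩ := Submodule.mem_span_pair.1 p2
  have := l.1.perp (geo_left a s) p1
  rw [geo_add_r, geo_smul_r, geo_smul_r, e, mul_zero, zero_add, mul_eq_zero, or_iff_left au] at this
  rw [this, zero_smul, add_zero] at p0 p1
  have x0 : x ≠ 0 := left_ne_zero_of_smul p0
  exact k s l (by simpa [x0] using Submodule.smul_mem _ x⁻¹ p1)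

omit [IsAlgClosed K] h in
/-- If every row of `B s s'` lies in one class then so does the whole table. -/
theorem table {R : K → K → Prop} (tr : ∀ x y z, R x y → R y z → R x z) {s₀ s₀' : V K} (l : DL M a s₀)
    (l' : DL M a s₀') (p : B s₀ s₀' ≠ 0) (nc : ∀ s, DL M a s → B s s₀ = 0 → B s s₀' ≠ 0)
    (H : ∀ s₁ s₂ s₃, DL M a s₁ → DL M a s₂ → DL M a s₃ → B s₁ s₂ ≠ 0 → B s₁ s₃ ≠ 0 → R (B s₁ s₂) (B s₁ s₃))
    (m : DL M a s) (m' : DL M a s') (q : B s s' ≠ 0) : R (B s₀ s₀') (B s s') := by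
  by_cases e : B s s₀ = 0
  · have e' := nc s m e
    refine tr _ _ _ ?_ (H _ _ _ m l' m' e' q)
    rw [B_comm s₀, B_comm s]
    exact H _ _ _ l' l m (B_comm s₀ s₀' ▸ p) (B_comm s s₀' ▸ e')
  · refine tr _ _ _ ?_ (H _ _ _ m l m' e q)
    rw [B_comm s]
    exact H _ _ _ l l' m p (B_comm s s₀ ▸ e)

theorem nc_aux {s₀ s₀' : V K} (l : DL M a s₀) (l' : DL M a s₀') (p : B s₀ s₀' ≠ 0) (s : V K) (m : DL M a s)
    (e : B s s₀ = 0) : B s s₀' ≠ 0 := fun e' => p (m.1.perp (h.nocop m l e) (h.nocop m l' e'))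

/-- Root groups of order `> 2`; `k` from `dk_opp` (`Ev0.root`).  For `ℓ = ⟨a, s⟩` opposite to `m ∋ b`, `b ⟂ a`, the torus element
`h_t` acts on `M(a)` by `v ↦ t • h v`: `α s + β b + z ↦ t² α s + β b + t z` (`z ⟂ ℓ, m`).  If `v = α s + β b + z` is singular
compare with `t v`: `(t² + t) α s + (1 + t) β b ∈ M(a)`; applying `h_t` again, `α ∈ k` and `(1 + t) β b ∈ M(a)`.  This gives
`gq` (`β ≠ 0` by `nocop`), and with `m` through a second polar point `b` of a line `⟨a, b⟩` (`two_pol`, `opp`; also with the two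
lines interchanged) that all `B s s'` lie in one `k`-class.  `span`, `not_span`. -/
theorem root (l : DL M a s) {c : K} (hc : wd a (c • s) ∈ M) : c = 0 ∨ c = 1 := by
  by_contra! nc
  have := h.fin
  have h2 := h.two
  obtain ⟨b₀, z₀, l₀, k₀⟩ := h.toEv0.exists_opp l
  obtain ⟨k, -, -, hk, -⟩ := dk_opp h2 l l₀ k₀ nc.1 nc.2 hc
  have ck := (hk c).1 hc
  replace hk : ∀ {a s}, DL M a s → ∀ x, wd a (x • s) ∈ M ↔ x ∈ k := fun l' x => (h.toEv0.root l' l x).trans (hk x)
  have op : ∀ {a y b z : V K}, DL M a y → DL M b z → kap a y b z ≠ 0 → kap a y b z ∈ k ∧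
      ∃ g ∈ M, (∀ v ∈ ln a y, g.1 v = c • v) ∧ (∀ v ∈ ln b z, g.1 v = c⁻¹ • v) ∧
        ∀ v, B a v = 0 → B y v = 0 → B b v = 0 → B z v = 0 → g.1 v = v := fun l l' n => by
    obtain ⟨k', -, k1, k2, -, k3⟩ := dk_opp h2 l l' n nc.1 nc.2 ((hk l c).2 ck)
    obtain rfl : k = k' := Subfield.ext fun x => (hk l x).symm.trans (k2 x)
    exact ⟨k1, k3 c ck nc.1⟩
  clear l hc l₀ k₀
  obtain ⟨a, q⟩ := h.ex
  have ⟨s₀, s₀', l, l', p⟩ := q
  refine h.not_span q (k := k) (κ := (B s₀ s₀')⁻¹) (fun s l x => (hk l x).2) (fun s s' m m' => ?_) (inv_ne_zero p)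
    fun v => h.span (fun a b qa qb e n => ?_) q
  · by_cases e : B s s' = 0
    · rw [e, mul_zero]; exact k.zero_mem
    refine (table (R := fun x y => y ≠ 0 ∧ x⁻¹ * y ∈ k) (fun x y z h1 h3 => ⟨h3.1, ?_⟩) l l' p (h.nc_aux l l' p)
      (fun s₁ s₂ s₃ l₁ l₂ l₃ n₂ n₃ => ⟨n₃, ?_⟩) m m' e).2
    · convert k.mul_mem h1.2 h3.2 using 1
      have := h1.1
      field_simp
    obtain ⟨b, u, e, lb, m, nu, au⟩ := h.second l₁
    have key : ∀ s, DL M a s → B s₁ s ≠ 0 → B a u * B s₁ s ∈ k := fun s l n => by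
      have n' : B b s = B s₁ s := B_congr e l.1.p
      have := (op l m (h.opp lb l m (fun i => n (n' ▸ lb.1.perp (geo_right a b) i)) nu)).1
      rw [kap, lb.1.p, zero_mul, zero_sub, B_comm s, n'] at this
      exact neg_mem_iff.1 this
    convert k.div_mem (key _ l₃ n₃) (key _ l₂ n₂) using 1
    field_simp
  by_contra n'
  obtain ⟨s, s', l, l', p⟩ := qa
  obtain ⟨u, -, m, -⟩ := qb
  obtain ⟨au, ka⟩ := h.far l m e n n'
  obtain ⟨-, g, hg, g1, g2, g3⟩ := op l m ka
  have sb : B s b ≠ 0 := fun e' => ka (by rw [kap, e, e']; ring)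
  have ga := g1 a (geo_left a s)
  have c0 := nc.1
  have c1 : c + 1 ≠ 0 := fun e => nc.2 (by linear_combination e - h2)
  -- `s' = α' a + α s + β b + z`
  obtain ⟨α, β, α', z, hz, rfl⟩ : ∃ α β α' : K, ∃ z, g.1 z = z ∧ s' = α' • a + α • s + β • b + z := by
    refine ⟨B s' b / B s b, B s' s / B s b, (B s' u - B s' b / B s b * B s u) / B a u, _, g3 _ ?_ ?_ ?_ ?_,
      (add_sub_cancel _ _).symm⟩ <;>
      simp only [B, polar_sub_right, polar_add_right, polar_smul_right']
    · rw [show polar (Q K) a s' = 0 from l'.1.p, show polar (Q K) a s = 0 from l.1.p, show polar (Q K) a b = 0 from e,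
        show polar (Q K) a a = 0 from geo_sing l.1.qa]
      ring
    · rw [polar_comm _ s a, show polar (Q K) a s = 0 from l.1.p, show polar (Q K) s s = 0 from geo_sing l.1.qy,
        polar_comm _ s s']
      field_simp
      ring
    · rw [polar_comm _ b a, show polar (Q K) a b = 0 from e, show polar (Q K) b b = 0 from geo_sing m.1.qa,
        polar_comm _ b s', polar_comm _ b s]
      field_simp
      ring
    · rw [polar_comm _ u b, show polar (Q K) b u = 0 from m.1.p, polar_comm _ u a, polar_comm _ u s', polar_comm _ u s]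
      field_simp
      ring
  have am : ∀ x : K, x • a ∈ Ma M l.1.qa := fun x =>
    ⟨by rw [geo_smul_r, geo_sing l.1.qa, mul_zero], by rw [wd, eich_self_smul l.1.qa]; exact M.one_mem⟩
  have sm : ∀ {s}, DL M a s → ∀ x ∈ k, x • s ∈ Ma M l.1.qa := fun l x hx =>
    ⟨by rw [geo_smul_r, l.1.p, mul_zero], (hk l x).2 hx⟩
  have w1 : ((c ^ 2 + c) * α) • s + ((c + 1) * β) • b ∈ Ma M l.1.qa := by
    convert add_mem (add_mem (ma_conj _ hg ga ⟨l'.1.p, l'.2⟩) (sm l' c ck)) (am ((c ^ 2 + c) * α')) using 1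
    rw [map_add, map_add, map_add, map_smul, map_smul, map_smul, hz, ga, g1 s (geo_right a s), g2 b (geo_left b u)]
    match_scalars
    · ring
    · field_simp; ring
    · linear_combination (-(c ^ 2 + c) * α') * h2
    · linear_combination (-c) * h2
  have w2 : ((c ^ 2 + 1) * ((c ^ 2 + c) * α)) • s ∈ Ma M l.1.qa := by
    convert add_mem (ma_conj _ hg ga w1) w1 using 1
    rw [map_add, map_smul, map_smul, g1 s (geo_right a s), g2 b (geo_left b u)]
    match_scalars
    · ring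
    · field_simp; linear_combination (-(c + 1) * β) * h2
  have c2 : c ^ 2 + 1 ≠ 0 := fun e => c1 (pow_eq_zero_iff two_ne_zero |>.1 (by linear_combination e + c * h2))
  have w3 : (c ^ 2 + c) * α ∈ k := by
    simpa [c2] using k.mul_mem (k.inv_mem (k.add_mem (k.pow_mem ck 2) k.one_mem)) ((hk l _).1 w2.2)
  have w4 := sub_mem w1 (sm l _ w3)
  rw [add_sub_cancel_left] at w4
  refine n' ⟨_, (ln_mk l.1.qa m.1.qa e l.1.ne n).smul (mul_ne_zero c1 ?_), w4.2⟩
  rintro rfl
  apply p
  have z1 : B s z = 0 := by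
    have := O.map_polar g s z
    rw [g1 s (geo_right a s), hz, polar_smul_left'] at this
    exact (mul_eq_zero.1 (show (c + 1) * B s z = 0 by linear_combination this + B s z * h2)).resolve_left c1
  rw [geo_add_r, geo_add_r, geo_add_r, geo_smul_r, geo_smul_r, geo_smul_r, z1, B_comm s a, l.1.p, geo_sing l.1.qy]
  ring

theorem eqv (l : DL M a s) (l' : DL M a s') (e : B s s' = 0) : s' - s ∈ K ∙ a := by
  obtain ⟨x, y, rfl⟩ := Submodule.mem_span_pair.1 (h.nocop l l' e)
  rcases h.root l (c := y) (by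
    have := l'.2
    rwa [add_comm, wd, eich_add_smul_self l.1.qa (by rw [polar_smul_right', show polar (Q K) a s = 0 from l.1.p,
      mul_zero])] at this) with rfl | rfl
  · exact (one_ne_zero (l'.1.li (-x) 1 (by module)).2).elim
  · exact Submodule.mem_span_singleton.2 ⟨x, by module⟩

omit h in
/-- The perp of a totally singular plane. -/
theorem ts3 (h2 : (2 : K) = 0) (l : Ln a b) {r : V K} (qr : Q K r = 0) (ar : B a r = 0) (br : B b r = 0)
    (n : r ∉ ln a b) (az : B a z = 0) (bz : B b z = 0) (rz : B r z = 0) :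
    ∃ x y w c : K, z = x • a + y • b + w • r + c • sU K := by
  obtain ⟨c, hc⟩ := IsAlgClosed.exists_eq_mul_self (Q K z)
  have su : ∀ v, B v (z + c • sU K) = B v z := fun v => by
    rw [geo_add_r, geo_smul_r, B_comm v (sU K), B_sU h2, mul_zero, add_zero]
  have qz : Q K (z + c • sU K) = 0 := by
    rw [Q_add, Q_smul, Q_sU, polar_smul_right', polar_comm, show polar (Q K) (sU K) z = 0 from B_sU h2 z]
    linear_combination hc + c * c * h2
  have t1 : TS (Q K) (ln a b ⊔ K ∙ r) := TS.sup_span (fun _ => l.sing) (mem_perp_pair.2 ⟨ar, br⟩) qr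
  have t2 := TS.sup_span t1 (v := z + c • sU K) (by
    rw [perp_sup]
    exact ⟨mem_perp_pair.2 ⟨(su a).trans az, (su b).trans bz⟩, mem_perp_singleton.2 ((su r).trans rz)⟩) qz
  have d := Submodule.finrank_lt_finrank_of_lt (s := ln a b) (t := ln a b ⊔ K ∙ r)
    (left_lt_sup.2 fun i => n (i (Submodule.mem_span_singleton_self r)))
  rw [l.finrank] at d
  have e := Submodule.eq_of_le_of_finrank_le (le_sup_left (a := ln a b ⊔ K ∙ r) (b := K ∙ (z + c • sU K)))
    ((finrank_ts h2 t2).trans d)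
  obtain ⟨_, h1, _, h3, k⟩ := Submodule.mem_sup.1 (e.ge (Submodule.mem_sup_right
    (Submodule.mem_span_singleton_self _)))
  obtain ⟨x, y, rfl⟩ := Submodule.mem_span_pair.1 h1
  obtain ⟨w, rfl⟩ := Submodule.mem_span_singleton.1 h3
  exact ⟨x, y, w, -c, by rw [k]; module⟩

theorem fixv {v : V K} (lb : DL M a b) (l : DL M a s) (n : B s b ≠ 0) (qv : Q K v = 0) (av : B a v = 0)
    (sp : v ∈ Submodule.span K {s | DL M a s}) (one : ∀ s, DL M a s → B s v = 1) (hg : g ∈ M) (ga : g.1 a = a)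
    (e : g.1 (g.1 v) - v ∈ K ∙ a) : g.1 v - v ∈ K ∙ a := by
  have h2 := h.two
  by_contra nr
  have cj : ∀ {g}, g ∈ M → g.1 a = a → ∀ {s}, DL M a s → DL M a (g.1 s) := fun hg ga s l => by
    simpa using dl_conj l hg (t := 1) (by rw [ga, one_smul])
  have ga' : g⁻¹.1 a = a := (O.inv_apply_eq g).2 ga.symm
  have gr : g.1 (g.1 v - v) - (g.1 v - v) ∈ K ∙ a := by
    convert e using 1
    rw [map_sub]
    linear_combination (norm := module) geo_add_self h2 v - geo_add_self h2 (g.1 v)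
  have sr : ∀ s, DL M a s → B s (g.1 v - v) = 0 := fun s l => by
    rw [B, polar_sub_right, O.polar_right]
    exact sub_eq_zero.2 ((one _ (cj (M.inv_mem hg) ga' l)).trans (one _ l).symm)
  have vr : B v (g.1 v - v) = 0 :=
    mem_perp_singleton.1 (le_perp_comm.1 (Submodule.span_singleton_le_iff_mem _ _ |>.2 (mem_perp_span.2 sr)) sp) ▸
      B_comm _ _
  have ar : B a (g.1 v - v) = 0 := by
    rw [B, polar_sub_right, O.polar_right, ga', sub_self]
  have qr : Q K (g.1 v - v) = 0 := by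
    rw [B, polar_sub_right, show polar (Q K) v v = 0 from geo_sing qv, sub_zero, polar_comm] at vr
    rw [Q_sub, O.map_Q, qv, vr]; ring
  generalize hr : g.1 v - v = r at *
  have nl : r ∉ ln a b := fun i => by
    obtain ⟨x, y, rfl⟩ := Submodule.mem_span_pair.1 i
    rw [B_comm, geo_add_l, geo_smul_l, geo_smul_l, av, one _ lb, mul_zero, zero_add, mul_one] at vr
    exact nr (Submodule.mem_span_singleton.2 ⟨x, by rw [vr, zero_smul, add_zero]⟩)
  have st : ∀ s, DL M a s → g.1 s - s - (g.1 b - b) - B s b • r ∈ K ∙ a := fun s l => by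
    obtain ⟨x, y, w, c, k⟩ := ts3 h2 lb.1 qr ar (sr _ lb) nl (z := s - b - B s b • v)
      (by rw [B, polar_sub_right, polar_sub_right, polar_smul_right']
          linear_combination l.1.p - lb.1.p - B s b * av)
      (by rw [B, polar_sub_right, polar_sub_right, polar_smul_right']
          linear_combination B_comm b s - geo_sing lb.1.qy - B s b * one _ lb)
      (by rw [B_comm, B, polar_sub_left, polar_sub_left, polar_smul_left']
          linear_combination sr _ l - sr _ lb - B s b * vr)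
    have y0 : y = 0 := by
      have := congrArg (B · v) k
      simp only [B, polar_sub_left, polar_add_left, polar_smul_left'] at this
      linear_combination -this + one _ l - one _ lb - B s b * geo_sing qv - x * av - y * one _ lb -
        w * (B_comm r v).trans vr - c * B_sU h2 v
    have k' := congrArg g.1 k
    rw [y0, zero_smul, add_zero] at k k'
    rw [map_sub, map_sub, map_add, map_add, map_smul, map_smul, map_smul, map_smul, ga, fix_sU h2] at k'
    convert Submodule.smul_mem _ w gr using 1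
    rw [← hr] at k k' ⊢
    linear_combination (norm := module) k' - k
  have nz : ∀ {x : K}, x • r ∈ K ∙ a → x = 0 := fun {x} hx => by_contra fun x0 =>
    nr (by simpa [x0] using Submodule.smul_mem _ x⁻¹ hx)
  have lg := cj hg ga lb
  have gb : g.1 b - b ∈ K ∙ a := by
    have k : g.1 (g.1 b) - (b + B (g.1 b) b • r) ∈ K ∙ a := by
      convert st _ lg using 1
      linear_combination (norm := module) geo_add_self h2 (g.1 b) - geo_add_self h2 b
    have k' := h.eqv lb (cj hg ga lg) (by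
      rw [B_comm, B_congr k lb.1.p, geo_add_l, geo_smul_l, geo_sing lb.1.qy, B_comm r, sr _ lb, mul_zero, add_zero])
    exact h.eqv lb lg ((B_comm _ _).trans (nz (by convert sub_mem k' k using 1; module)))
  have k : g.1 s - (s + B s b • r) ∈ K ∙ a := by convert add_mem (st _ l) gb using 1; module
  have k' := h.eqv l (cj hg ga l) (by
    rw [B_comm, B_congr k l.1.p, geo_add_l, geo_smul_l, geo_sing l.1.qy, B_comm r, sr _ l, mul_zero, add_zero])
  exact n (nz (by convert sub_mem k' k using 1; module))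

/-- Type II is impossible.  Let `s₁, s₂, s₃` with `B s₁ s₂ ≠ B s₁ s₃` nonzero; `b` a second polar point on `⟨a, s₁⟩`, `b ∧ u` a
second line; `dk_line` gives `h` of odd order with `h^* = t • h` permuting `𝒮 = {s mod a | a ∧ s ∈ D}`, `t` a generator of
`k^*`, `|k| ≥ 4`, eigenvalues `1, t, t²` on `ℓ / a`, `ℓ^⊥ / ℓ`, `a^⊥ / ℓ^⊥`.  `a^⊥ = ⟨a, s₁⟩ ⊕ Z ⊕ ⟨v⟩`, `Q v = 0`, `B s₁ v = 1`.
For `s = α s₁ + z + γ v ∈ 𝒮`, `γ ≠ 0`, the sum over the orbit is `α s₁ ∈ M(a)`, so `α ∈ {0, 1}` (`root`), and `α = 0` gives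
`s ⟂ h^* s` (`nocop`, `root`).  So `B s v = 1` on `𝒮`, and `v` is in the span of `𝒮` (`Σ t^(-2i) h^{*i} s = γ v`).  For `g ∈ T`
let `r = g v + v`: singular, `⟂ 𝒮`, in `Z`.  If `r ∉ K a`, `z ∈ ⟨r, sU⟩` for all `s`, `g r ∈ span 𝒮 ⊓ Z` is singular, so `g r = r` (mod `a`); if `g s₁ = s` then
`g s = s₁ + γ r ⟂ s₁` forces `γ = 0`, `s = s₁`; then `g s = s + γ r ⟂ s` for `s ≠ s₁`, so `r = 0`.  `transfer`. -/
theorem const {s₁ s₂ s₃ : V K} (l₁ : DL M a s₁) (l₂ : DL M a s₂) (l₃ : DL M a s₃) (h₂ : B s₁ s₂ ≠ 0)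
    (h₃ : B s₁ s₃ ≠ 0) : B s₁ s₂ = B s₁ s₃ := by
  by_contra ne
  have := h.fin
  have h2 := h.two
  obtain ⟨b, u, e, lb, m, nu, au⟩ := h.second l₁
  have e₂ : B s₂ b = B s₁ s₂ := (B_comm _ _).trans (B_congr e l₂.1.p)
  have e₃ : B s₃ b = B s₁ s₃ := (B_comm _ _).trans (B_congr e l₃.1.p)
  rw [← e₂] at h₂ ne
  rw [← e₃] at h₃ ne
  obtain ⟨k, -, k1, k2, k3⟩ := dk_line h2 lb.1 l₂ l₃ m h₂ h₃ ne au
  obtain ⟨t, t0, t1, tk⟩ : ∃ t : K, t ≠ 0 ∧ t ≠ 1 ∧ t ∈ k := by
    by_cases o : B s₂ b * B a u = 1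
    · exact ⟨_, mul_ne_zero h₃ au, fun o' => ne (mul_right_cancel₀ au (o.trans o'.symm)), k2⟩
    · exact ⟨_, mul_ne_zero h₂ au, o, k1⟩
  obtain ⟨g, hg, od, ga, gb, gv⟩ := k3 t tk t0
  replace hg : g ∈ M := (Subgroup.closure_le M).2 (by rintro _ (rfl | rfl | rfl); exacts [l₂.2, l₃.2, m.2]) hg
  have t2 : t ^ 2 - 1 ≠ 0 := fun e => t1 (sub_eq_zero.1 (pow_eq_zero_iff two_ne_zero |>.1
    (by linear_combination e + (1 - t) * h2)))
  have gn := pow_orderOf_eq_one g
  generalize orderOf g = n at od gn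
  have n1 : (n : K) = 1 := by
    obtain ⟨j, rfl⟩ := od
    push_cast
    linear_combination j * h2
  have tn : t ^ n = 1 := by
    have := O7.T3.pow_smul ga n
    rw [gn, O.one_apply, eq_comm, ← sub_eq_zero, ← one_smul K a, smul_smul, mul_one, ← sub_smul] at this
    exact sub_eq_zero.1 ((smul_eq_zero.1 this).resolve_right l₁.1.ne)
  have pw : ∀ {s}, DL M a s → ∀ i, DL M a (t ^ i • (g ^ i).1 s) := fun l i =>
    dl_conj l (M.pow_mem hg i) (O7.T3.pow_smul ga i)
  have av : ∀ (x : K) (w : V K), x ^ n = 1 → x • g.1 (∑ i ∈ Finset.range n, x ^ i • (g ^ i).1 w) =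
      ∑ i ∈ Finset.range n, x ^ i • (g ^ i).1 w := fun x w hx => by
    have := Finset.sum_range_succ' (fun i => x ^ i • (g ^ i).1 w) n
    rw [Finset.sum_range_succ, hx, gn, pow_zero, pow_zero, add_left_inj] at this
    rw [map_sum, Finset.smul_sum, this]
    exact Finset.sum_congr rfl fun i _ => by rw [map_smul, smul_smul, pow_succ', pow_succ', O.mul_apply]
  have bs : ∀ (x : K) (w p : V K), x ≠ 0 → g.1 p = x • p → B (∑ i ∈ Finset.range n, x ^ i • (g ^ i).1 w) p = B w p :=
    fun x w p x0 hp => by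
      have : ∀ i, B (x ^ i • (g ^ i).1 w) p = B w p := fun i => by
        rw [geo_smul_l, ← geo_smul_r, ← O7.T3.pow_smul hp]; exact O.map_polar _ _ _
      rw [B, ← polarBilin_apply_apply, map_sum, LinearMap.sum_apply]
      simp only [polarBilin_apply_apply, this, Finset.sum_const, Finset.card_range, nsmul_eq_mul, n1, one_mul]
  obtain ⟨v, sp, gv', bv, av'⟩ : ∃ v, v ∈ Submodule.span K {s | DL M a s} ∧ g.1 v = t • v ∧ B b v = 1 ∧ B a v = 0 := by
    have i : ∀ i, t⁻¹ ^ i • (g ^ i).1 s₂ = (t⁻¹ ^ i * t⁻¹ ^ i) • t ^ i • (g ^ i).1 s₂ := fun i => by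
      rw [smul_smul, mul_assoc, ← mul_pow, inv_mul_cancel₀ t0, one_pow, mul_one]
    refine ⟨(B s₂ b)⁻¹ • ∑ i ∈ Finset.range n, t⁻¹ ^ i • (g ^ i).1 s₂, Submodule.smul_mem _ _ (sum_mem fun j _ => ?_),
      ?_, ?_, ?_⟩
    · rw [i]; exact Submodule.smul_mem _ _ (Submodule.subset_span (pw l₂ j))
    · rw [map_smul, smul_comm, ← av t⁻¹ s₂ (by rw [inv_pow, tn, inv_one]), smul_inv_smul₀ t0, av t⁻¹ s₂
        (by rw [inv_pow, tn, inv_one])]
    · rw [geo_smul_r, B_comm b, bs _ _ _ (inv_ne_zero t0) gb, inv_mul_cancel₀ h₂]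
    · refine (geo_smul_r _ _ _).trans (mul_eq_zero_of_right _ ?_)
      rw [B, ← polarBilin_apply_apply, map_sum, Finset.sum_eq_zero fun j _ => ?_]
      rw [i, polarBilin_apply_apply, polar_smul_right', show polar (Q K) a _ = 0 from (pw l₂ j).1.p, mul_zero]
  have qv : Q K v = 0 := by
    have := O.map_Q g v
    rw [gv', Q_smul] at this
    exact (mul_eq_zero.1 (show (t ^ 2 - 1) * Q K v = 0 by linear_combination this)).resolve_left t2
  have one : ∀ s, DL M a s → B s v = 1 := fun s l => by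
    have sm : ∑ i ∈ Finset.range n, t ^ i • (g ^ i).1 s ∈ Ma M l.1.qa := sum_mem fun i _ => ⟨(pw l i).1.p, (pw l i).2⟩
    have e1 := av t s tn
    have e2 := bs t s v t0 gv'
    generalize ∑ i ∈ Finset.range n, t ^ i • (g ^ i).1 s = σ at sm e1 e2
    replace e1 : g.1 σ = t⁻¹ • σ := by rw [← e1, inv_smul_smul₀ t0, e1]
    have bσ : B b σ = 0 := by
      have := O.map_polar g b σ
      rw [gb, e1, polar_smul_left', polar_smul_right'] at this
      field_simp at this
      exact (mul_eq_zero.1 (show (t ^ 2 - 1) * B b σ = 0 by linear_combination -this)).resolve_left t2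
    have mσ : σ ∈ ln a b := by
      have := gv σ sm.1 bσ
      rw [e1, ← one_smul K σ, smul_smul, mul_one, ← sub_smul] at this
      have n : t⁻¹ - 1 ≠ 0 := sub_ne_zero.2 (by simpa using t1)
      simpa [n] using Submodule.smul_mem _ (t⁻¹ - 1)⁻¹ this
    obtain ⟨x, y, rfl⟩ := Submodule.mem_span_pair.1 mσ
    rw [geo_add_l, geo_smul_l, geo_smul_l, av', bv, mul_zero, zero_add, mul_one] at e2
    refine e2 ▸ (h.root lb (c := y) (by
      have := sm.2
      rwa [add_comm, wd, eich_add_smul_self l.1.qa (by rw [polar_smul_right', show polar (Q K) a b = 0 from lb.1.p,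
        mul_zero])] at this)).resolve_left fun y0 => ?_
    rw [y0, eq_comm] at e2
    obtain ⟨x, y, k⟩ := Submodule.mem_span_pair.1 (gv (s - B s b • v)
      (by rw [B, polar_sub_right, polar_smul_right']; linear_combination l.1.p - B s b * av')
      (by rw [B, polar_sub_right, polar_smul_right']; linear_combination B_comm b s - B s b * bv))
    have gs : g.1 s = s + (B s b * (t - 1)) • v + x • a + y • b := by
      rw [map_sub, map_smul, gv'] at k
      linear_combination (norm := module) -k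
    have y0 : y = 0 := by
      have := O.map_polar g s v
      rw [gv', polar_smul_right', gs] at this
      simp only [polar_add_left, polar_smul_left'] at this
      exact (mul_eq_zero.1 (show t * y = 0 by
        linear_combination this + (1 - t) * e2 - t * B s b * (t - 1) * geo_sing qv - t * x * av' - t * y * bv)).resolve_left t0
    have l' := dl_conj l hg ga
    have k' := B_congr (h.eqv l l' (by
      rw [geo_smul_r, gs, y0, geo_add_r, geo_add_r, geo_add_r, geo_smul_r, geo_smul_r, geo_smul_r, e2, B_comm s a, l.1.p,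
        geo_sing l.1.qy]
      ring)) lb.1.p
    have k'' := O.map_polar g s b
    rw [gb, polar_smul_right'] at k''
    rw [geo_smul_l] at k'
    field_simp at k''
    have sb : B s b = 0 :=
      (mul_eq_zero.1 (show (t ^ 2 - 1) * B s b = 0 by linear_combination k' - t * k'')).resolve_left t2
    exact one_ne_zero (bv.symm.trans ((B_congr (h.eqv l lb sb) av').trans e2))
  refine h.transfer ⟨s₂, b, l₂, lb, h₂⟩ fun T hT pT fa => ⟨v, 1, one_ne_zero, fun x hx => ?_, one⟩
  obtain ⟨j, hj⟩ := pT ⟨x, hx⟩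
  replace hj : x ^ 2 ^ j = 1 := congrArg Subtype.val hj
  induction j generalizing x with
  | zero => rw [pow_zero, pow_one] at hj; simp [hj]
  | succ j ih =>
    exact h.fixv lb l₂ h₂ qv av' sp one (hT hx) (fa x hx) (ih (x * x) (T.mul_mem hx hx)
      (by rw [← pow_two, ← pow_mul, ← pow_succ', hj]))

theorem const' {s₀ s₀' : V K} (l : DL M a s₀) (l' : DL M a s₀') (p : B s₀ s₀' ≠ 0) (m : DL M a s) (m' : DL M a s')
    (q : B s s' ≠ 0) : B s₀ s₀' = B s s' :=
  table (R := Eq) (fun _ _ _ => Eq.trans) l l' p (h.nc_aux l l' p) (fun _ _ _ => h.const) m m' q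

theorem three (l : DL M a s) (l' : DL M a s') (p : B s s' ≠ 0) : ∃ y, DL M a y ∧ B s y ≠ 0 ∧ B s' y ≠ 0 := by
  by_contra! k
  have two : ∀ y, DL M a y → y - s ∈ K ∙ a ∨ y - s' ∈ K ∙ a := fun y m =>
    (eq_or_ne (B s y) 0).imp (h.eqv l m) fun e => h.eqv l' m (k y m e)
  refine h.transfer ⟨s, s', l, l', p⟩ fun T hT _ fa => ⟨s + s', B s s', p, fun g hg => ?_, fun y m => ?_⟩
  · have cj : ∀ {s}, DL M a s → DL M a (g.1 s) := fun l => by
      simpa using dl_conj l (hT hg) (t := 1) (by rw [fa g hg, one_smul])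
    have p' : B (g.1 s) (g.1 s') ≠ 0 := (O.map_polar g s s').trans_ne p
    have n : ∀ y, DL M a y → g.1 s - y ∈ K ∙ a → g.1 s' - y ∈ K ∙ a → False := fun y m e e' => p' (by
      rw [B_congr e (cj l').1.p, B_comm, B_congr e' m.1.p, geo_sing m.1.qy])
    rcases two _ (cj l) with e | e <;> rcases two _ (cj l') with e' | e'
    · exact (n _ l e e').elim
    · convert add_mem e e' using 1; rw [map_add]; abel
    · convert add_mem e e' using 1; rw [map_add]; abel
    · exact (n _ l' e e').elim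
  · have as : B a (s + s') = 0 := by rw [geo_add_r, l.1.p, l'.1.p, add_zero]
    rcases two y m with e | e <;> rw [B_congr e as, geo_add_r]
    · rw [geo_sing l.1.qy, zero_add]
    · rw [geo_sing l'.1.qy, add_zero, B_comm]

theorem gq (qa : Pol M a) (qb : Pol M b) (e : B a b = 0) (n : b ∉ K ∙ a) : ∃ c : K, DL M a (c • b) := by
  have := h.fin
  have h2 := h.two
  by_contra n'
  obtain ⟨u, -, m, -⟩ := qb
  obtain ⟨s₁, s₂, l₁, l₂, p⟩ := qa
  obtain ⟨s₃, l₃, p', p''⟩ := h.three l₁ l₂ p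
  have au := (h.far l₁ m e n n').1
  have lb := ln_mk l₁.1.qa m.1.qa e l₁.1.ne n
  have key : ∀ s s', DL M a s → DL M a s' → B s s' ≠ 0 → B a u • ((s - (B s u / B a u) • a) + (s' - (B s' u / B a u) • a)) +
      (B s₁ s₂ * B a u) • a ∈ Ma M m.1.qa := fun s s' l l' q => by
    have sb : B s b = B s' b := by
      by_contra ne
      refine n' (lemM h2 lb l l' m q au (h.far l m e n n').2 (h.far l' m e n n').2 fun k => ne ?_)
      rw [kap, kap, e] at k
      exact mul_left_cancel₀ au (by linear_combination -k)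
    rw [h.const' l₁ l₂ p l l' q]
    have d : ∀ {s}, DL M a s → DL M a (s - (B s u / B a u) • a) ∧ B (s - (B s u / B a u) • a) u = 0 ∧
        ∀ w, B a w = 0 → B (s - (B s u / B a u) • a) w = B s w := fun {s} l => by
      have i : s - (B s u / B a u) • a - s ∈ K ∙ a := Submodule.mem_span_singleton.2 ⟨-(B s u / B a u), by module⟩
      refine ⟨l.congr i, ?_, fun w => B_congr i⟩
      rw [B, polar_sub_left, polar_smul_left', div_mul_cancel₀ _ au, sub_self]
    obtain ⟨l, su, sw⟩ := d l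
    obtain ⟨l'', su', sw'⟩ := d l'
    rw [← sw b e, ← sw' b e] at sb
    rw [← sw s' l'.1.p, B_comm _ s', ← sw' _ l.1.p]
    generalize s - (B s u / B a u) • a = s at *
    generalize s' - (B s' u / B a u) • a = s' at *
    have ay : B a (s + s') = 0 := by rw [geo_add_r, l.1.p, l''.1.p, add_zero]
    have yb : B b (s + s') = 0 := by rw [B_comm, geo_add_l, sb, ← two_mul, h2, zero_mul]
    have yu : B u (s + s') = 0 := by rw [B_comm, geo_add_l, su, su', add_zero]
    have qy : Q K (s + s') = B s' s := by rw [Q_add, l.1.qy, l''.1.qy, zero_add, zero_add, polar_comm]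
    have my : wd a (s + s') ∈ M := ((Ma M l.1.qa).add_mem ⟨l.1.p, l.2⟩ ⟨l''.1.p, l''.2⟩).2
    generalize s + s' = y at *
    have my' := M.mul_mem (M.mul_mem m.2 my) (M.inv_mem m.2)
    rw [wd, wd, conj_eich, m.1.apply h2, m.1.apply h2, yb, yu, B_comm b a, e, B_comm u a] at my'
    simp only [zero_smul, add_zero] at my'
    have w := wd_add_left h2 l.1.qa (b := B a u • b) (z := y) (by rw [Q_smul, m.1.qa, mul_zero])
      (by rw [geo_smul_r, e, mul_zero]) ay (by rw [geo_smul_l, yb, mul_zero])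
    have ba : B b a = 0 := (B_comm _ _).trans e
    have w' : wd a (Q K y • B a u • b) = wd b ((B s' s * B a u) • a) := by
      rw [smul_smul, qy, wd, ← eich_smul_left l.1.qa e, wd, ← eich_smul_left m.1.qa ba, eich_smul_left l.1.qa e,
        eich_swap l.1.qa (by rw [polar_smul_right']; linear_combination (B s' s * B a u) * e)
          (by rw [Q_smul, m.1.qa, mul_zero]), geo_neg h2]
    have y1 : B b (B a u • y) = 0 := by rw [geo_smul_r, yb, mul_zero]
    have y2 : B b ((B s' s * B a u) • a) = 0 := by rw [geo_smul_r, ba, mul_zero]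
    refine ⟨by rw [geo_add_r, y1, y2, add_zero], ?_⟩
    rw [wd, eich_add m.1.qa y1 y2, ← eich_smul_left m.1.qa yb]
    have : wd (B a u • b) y * wd b ((B s' s * B a u) • a) = (wd a y)⁻¹ * wd (a + B a u • b) y := by
      rw [eq_inv_mul_iff_mul_eq, ← mul_assoc, w, w', mul_assoc, wd_sq h2, mul_one]
    exact this ▸ M.mul_mem (M.inv_mem my) my'
  have k := add_mem (add_mem (key _ _ l₁ l₂ p) (key _ _ l₁ l₃ p')) (key _ _ l₂ l₃ p'')
  have k' : (B s₁ s₂ * B a u) • a ∈ Ma M m.1.qa := by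
    convert k using 1
    match_scalars
    · linear_combination (B a u * (B s₁ u / B a u + B s₂ u / B a u + B s₃ u / B a u) - B s₁ s₂ * B a u) * h2
    · linear_combination (-B a u) * h2
    · linear_combination (-B a u) * h2
    · linear_combination (-B a u) * h2
  have c0 := mul_ne_zero p au
  refine n' ⟨_, lb.smul c0, ?_⟩
  rw [← (lb.smul c0).swap h2, wd, eich_smul_left m.1.qa ((B_comm _ _).trans e)]
  exact k'.2

/-- Type I: `B s s' = κ` for different lines on `a`.  Two lines: `transfer` with `v = s₁ + s₂`.  So every polar point is on at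
least three lines, and `gq` holds: let
`b ⟂ a`, `e = b ∧ u`, `B a u = 1`, all lines on `a` opposite to it, `s_i ⟂ u`.  If the `B s_i b` differ use `lemM`.  Otherwise
`y = s_i + s_j ⟂ b, u`, `e (eich a y) e = eich (a + b) y`, and `wd_add_left` gives `y + κ a ∈ M(b)`; the sum over the three pairs
is `κ a ∈ M(b)`.  `span`, `not_span` with `k = ⊥`. -/
theorem false : False := by
  have h2 := h.two
  obtain ⟨a, q⟩ := h.ex
  have ⟨s₀, s₀', l, l', p⟩ := q
  let k : Subfield K :=
    { carrier := {x | x = 0 ∨ x = 1}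
      mul_mem' := by rintro _ _ (rfl | rfl) (rfl | rfl) <;> simp
      one_mem' := .inr rfl
      add_mem' := by rintro _ _ (rfl | rfl) (rfl | rfl) <;> simp [one_add_one_eq_two, h2]
      zero_mem' := .inl rfl
      neg_mem' := by
        rintro _ (rfl | rfl)
        exacts [.inl neg_zero, .inr (by linear_combination -h2)]
      inv_mem' := by rintro _ (rfl | rfl) <;> simp }
  refine h.not_span q (k := k) (κ := (B s₀ s₀')⁻¹) ?_ (fun s s' m m' => ?_) (inv_ne_zero p)
    fun v => h.span (fun a b => h.gq) q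
  · rintro s l _ (rfl | rfl)
    · simp
    · simpa using l.2
  · by_cases e : B s s' = 0
    · exact .inl (by rw [e, mul_zero])
    · exact .inr (by rw [h.const' l l' p m m' e, inv_mul_cancel₀ e])

end Pd

end Cfsg.Lib.S6Q
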