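import Cfsg.Agent.Lib.S6Q.RI
import Cfsg.Agent.Lib.O7.U32
import Cfsg.Agent.Lib.U3.Mat

/-!
# `U₃(q)`, `q ≥ 4` even, is not an `Ev0` group
-/

set_option autoImplicit false

namespace Cfsg.Lib.S6Q

open scoped MatrixGroups Matrix commutatorElement
open QuadraticMap Module Cfsg.Lib.Orth Cfsg.Lib.Asch
open Cfsg.Lib.O7 (V W Q N I7 Spin phi act gam sU dm fx stabS stabV dgV)

namespace K2u

open Cfsg.Lib.Unitary Cfsg.Lib.PSL2 Cfsg.Lib.O7.U3 Matrix

variable {E : Type*} [Field E] {σ : E →+* E} {q : ℕ} (b : IsBar q σ) (h2 : (2 : E) = 0)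

include h2 in
theorem nz {c l : E} (hl : l * σ l = 1) (hc : σ c = c) : (1 + c) * σ (1 + c) + c * l * σ (c * l) = 1 := by
  rw [map_add, map_one, map_mul, hc]; linear_combination (c + c ^ 2) * h2 + c ^ 2 * hl

theorem n1 : (1 : E) * σ 1 = 1 := by simp

/-- Root elements of `SU₂`. -/
def zz {l : E} (hl : l * σ l = 1) (c : fixedField σ) : SU 2 E q := su b (1 + c) (c * l) (nz h2 hl c.2)

theorem zz_val {l : E} (hl : l * σ l = 1) (c : fixedField σ) :
    (zz b h2 hl c).1.1 = !![1 + c.1, c * l; c * σ l, 1 + c.1] := by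
  have hc : σ c = c := c.2
  rw [zz, su_val, map_mul, map_add, map_one, hc]
  congr 4
  linear_combination -c.1 * σ l * h2

theorem zz_add (c c' : fixedField σ) : zz b h2 n1 c * zz b h2 n1 c' = zz b h2 n1 (c + c') := sux (by
  ext i j
  fin_cases i <;> fin_cases j <;> simp [zz_val, mul_apply] <;> linear_combination c.1 * c'.1 * h2)

theorem zz_zero : zz b h2 n1 0 = 1 := sux (by
  ext i j
  fin_cases i <;> fin_cases j <;> simp [zz_val])

/-- Two root groups generate `SU₂`. -/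
theorem gen2 [Fintype E] {l : E} (hl : l * σ l = 1) (l1 : l ≠ 1) {S : Subgroup (SU 2 E q)}
    (h : ∀ c, zz b h2 n1 c ∈ S) (h' : ∀ c, zz b h2 hl c ∈ S) (g : SU 2 E q) : g ∈ S := by
  have n : 1 + σ l ≠ 0 := fun e => l1 (by linear_combination l * e - hl - h2)
  obtain ⟨s, hs⟩ : ∃ s, s * (1 + σ l) = 1 := ⟨_, inv_mul_cancel₀ n⟩
  have hs' : σ s * (1 + l) = 1 := by simpa [b.invol] using congrArg σ hs
  have hP : (!![1, s; 1, σ l * s] : Matrix (Fin 2) (Fin 2) E).det ≠ 0 := by
    rw [det_fin_two_of, show 1 * (σ l * s) - s * 1 = 1 by linear_combination hs - s * h2]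
    exact one_ne_zero
  set P := GeneralLinearGroup.mkOfDetNeZero _ hP
  have hJ : (P.1.map σ)ᵀ * P.1 = !![0, 1; -1, 0] := by
    ext i j
    fin_cases i <;> fin_cases j <;> simp [P, mul_apply, b.invol]
    · linear_combination h2
    · linear_combination hs
    · linear_combination hs' + h2
    · linear_combination σ s * s * hl + σ s * s * h2
  have uP : IsUnit (P.1.map σ)ᵀ := by
    rw [isUnit_iff_isUnit_det, det_transpose, ← RingHom.mapMatrix_apply, ← RingHom.map_det]
    exact ((map_ne_zero σ).2 hP).isUnit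
  have ev : ∀ s, (slConj (fixedField σ).subtype P s).1 * P.1 =
      P.1 * (SpecialLinearGroup.map (fixedField σ).subtype s).1 := fun s => Units.inv_mul_cancel_right _ _
  have mem : ∀ s, slConj (fixedField σ).subtype P s ∈ SU 2 E q := fun s => by
    have h1 := mem_mSU.1 ((mem_mSU_two (σ := σ) one_ne_zero (g := SpecialLinearGroup.map (fixedField σ).subtype s)).2
      fun i j => (s i j).2)
    rw [b.mem_SU_iff]
    have e := ev s
    refine uP.mul_left_cancel (P.isUnit.mul_right_cancel ?_)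
    rw [← mul_assoc, mul_assoc, e, ← transpose_mul, ← Matrix.map_mul, e, Matrix.map_mul, transpose_mul, mul_one, hJ,
      ← mul_assoc, mul_assoc _ _ P.1, hJ, h1]
  obtain ⟨e⟩ := nonempty_SU_two_equiv (F := E) (by rw [← b.card, Nat.card_eq_fintype_card]) b.card_fixedField
  obtain ⟨x, rfl⟩ := (Function.Injective.bijective_of_nat_card_le
    (f := (slConj (fixedField σ).subtype P).codRestrict _ mem)
    (fun s t h => slConj_injective _ P (congrArg Subtype.val h)) (Nat.card_congr e.toEquiv).le).2 g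
  induction x using SL2.transvection_induction with
  | htransvec i j hij c =>
    fin_cases i <;> fin_cases j
    · exact absurd rfl hij
    · convert h c using 1
      refine sux (P.isUnit.mul_right_cancel ((ev _).trans ?_))
      ext i j
      fin_cases i <;> fin_cases j <;>
        simp [P, zz_val, mul_apply, SpecialLinearGroup.transvection_coe]
      exacts [by linear_combination -c.1 * h2, by linear_combination -c.1 * hs, by linear_combination -c.1 * h2,
        by linear_combination -c.1 * hs]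
    · convert h' (c * ⟨s * σ s, by rw [mem_fixedField, map_mul, b.invol, mul_comm]⟩) using 1
      refine sux (P.isUnit.mul_right_cancel ((ev _).trans ?_))
      ext i j
      fin_cases i <;> fin_cases j <;>
        simp [P, zz_val, mul_apply, SpecialLinearGroup.transvection_coe]
      exacts [by linear_combination -c.1 * s * hs', by linear_combination -c.1 * s * σ s * s * (hl + h2),
        by linear_combination -c.1 * s * σ l * hs' + c.1 * s * σ s * hl,
        by linear_combination -c.1 * s * σ s * σ l * s * h2]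
    · exact absurd rfl hij
  | hmul x y hx hy => rw [map_mul]; exact mul_mem hx hy

/-- Root elements are squares. -/
theorem exists_sq [Fintype E] (c : fixedField σ) : ∃ g : SU 3 E q, g ^ 2 = up b (zz b h2 n1 c) := by
  obtain ⟨x, hx⟩ := b.exists_norm_eq (μ := c.1) c.2
  obtain ⟨y, hy⟩ := U3.exists_hs' b x
  have hy0 : y + σ y = x * σ x := hy
  have hy' : σ y = y + x * σ x := by linear_combination hy0 - y * h2
  refine ⟨mkU b !![1, x, x; σ x, 1 + y, y; σ x, y, 1 + y] (by simp [det_fin_three]; grind) ?_, sux ?_⟩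
  · ext i j
    fin_cases i <;> fin_cases j <;> simp [mul_apply, Fin.sum_univ_three, b.invol, hy'] <;> grind
  · rw [pow_two, O7.U3.mul_val, up_val, zz_val, ← hx]
    ext i j
    fin_cases i <;> fin_cases j <;> simp [mkU, mul_apply, Fin.sum_univ_three] <;> grind

theorem zz_ne [Fintype E] {c : fixedField σ} (m : up b (zz b h2 n1 c) ∈ Subgroup.center (SU 3 E q)) : c = 0 := by
  obtain ⟨a, e⟩ := (mem_center_SU (by rw [← b.card, Nat.card_eq_fintype_card]) (by norm_num)).1 m
  simpa [up_val, zz_val] using congrFun (congrFun e 1) 2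

theorem hdg {l : E} (hl : l * σ l = 1) : l * 1 * σ l = 1 ∧ l * σ l = 1 ∧ 1 * σ 1 = 1 := by simp [hl]

theorem dg_zz {l : E} (hl : l * σ l = 1) (c : fixedField σ) :
    dg b _ _ _ (hdg hl) * up b (zz b h2 n1 c) * (dg b _ _ _ (hdg hl))⁻¹ = up b (zz b h2 hl c) :=
  mul_inv_eq_iff_eq_mul.2 (sux (by
    rw [O7.U3.mul_val, O7.U3.mul_val, up_val, up_val, zz_val, zz_val, dg_val]
    ext i j
    fin_cases i <;> fin_cases j <;> simp [mul_apply, Fin.sum_univ_three] <;> grind))

/-- Three root groups generate `SU₃`. -/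
theorem gen3 [Fintype E] (hq : q ≠ 2) {l : E} (hl : l * σ l = 1) (l1 : l ≠ 1) {A : Subgroup (SU 3 E q)}
    (h : ∀ c, up b (zz b h2 n1 c) ∈ A)
    (h' : ∀ c, dg b _ _ _ (hdg hl) * up b (zz b h2 n1 c) * (dg b _ _ _ (hdg hl))⁻¹ ∈ A)
    (h'' : ∀ c, rr b * up b (zz b h2 n1 c) * (rr b)⁻¹ ∈ A) (g : SU 3 E q) : g ∈ A := by
  have u : ∀ g, up b g ∈ A := gen2 b h2 hl l1 (S := A.comap (up b)) h fun c =>
    show up b _ ∈ A from dg_zz b h2 hl c ▸ h' c
  have d : rr b * dg b _ _ _ (hdg hl) * (rr b)⁻¹ ∈ A := by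
    have := u (su b (σ l) 0 (by simp [b.invol, mul_comm, hl]))
    rw [up_su b _ _ (by simp [b.invol, mul_comm, hl])] at this
    rw [rr_dg]
    convert this using 2
    exact (b.invol l).symm
  have u' : ∀ g, rr b * up b g * (rr b)⁻¹ ∈ A :=
    gen2 b h2 hl l1 (S := A.comap ((MulAut.conj (rr b)).toMonoidHom.comp (up b))) h'' fun c => by
      have := mul_mem (mul_mem d (h'' c)) (inv_mem d)
      change rr b * up b _ * _ ∈ A
      rw [← dg_zz]
      convert this using 1
      group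
  refine gen b hq (by rintro _ ⟨g, rfl⟩; exact u g) ?_ g
  convert mul_mem (u (su b 0 1 (by simp))) (u' (su b 0 1 (by simp))) using 1
  rw [← mul_assoc, eq_mul_inv_iff_mul_eq]
  refine sux ?_
  simp only [O7.U3.mul_val, up_val, su_val, rr_val]
  ext i j
  fin_cases i <;> fin_cases j <;> simp [mul_apply, Fin.sum_univ_three]

theorem exists_c [Fintype E] {μ : E} (hμ : IsPrimitiveRoot μ (q + 1)) (h4 : 4 ≤ q) : ∃ c c₂ c₃ : SU 3 E q,
    Commute c c₂ ∧ c * c₂ * c₃ = 1 ∧ rr b * c * (rr b)⁻¹ = c₂ ∧ rr b * rr b * c * (rr b * rr b)⁻¹ = c₃ ∧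
    c ^ (q + 1) = 1 ∧ c₂ * c⁻¹ ∉ Subgroup.center _ ∧ ∀ g, Commute c (up b g) := by
  have hl : μ * σ μ = 1 := by rw [b.norm_eq, hμ.pow_eq_one]
  have hc : σ μ ^ 2 * μ * μ = 1 ∧ σ μ ^ 2 * σ (σ μ ^ 2) = 1 ∧ μ * σ μ = 1 :=
    ⟨by linear_combination (μ * σ μ + 1) * hl, by rw [map_pow, b.invol]; linear_combination (μ * σ μ + 1) * hl, hl⟩
  have h' : σ μ * μ ^ 2 * σ μ = 1 ∧ σ μ * σ (σ μ) = 1 ∧ μ ^ 2 * σ (μ ^ 2) = 1 :=
    ⟨by grind, by rw [b.invol]; grind, by rw [map_pow]; grind⟩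
  have h3 : μ ^ 3 * 1 * σ μ ^ 3 = 1 ∧ μ ^ 3 * σ (μ ^ 3) = 1 ∧ 1 * σ 1 = 1 :=
    ⟨by grind, by rw [map_pow]; grind, by simp⟩
  refine ⟨dg b _ _ _ hc, dg b _ _ _ (dg_rot b hc), dg b _ _ _ (dg_rot b (dg_rot b hc)), dg_comm b, ?_, rr_dg b, ?_, ?_,
    fun m => ?_, dg_up b⟩
  · rw [dg_mul b (h'' := h') (by grind) (by grind) (by grind),
      dg_mul b (h'' := by simp) (u := 1) (v := 1) (w := 1) (by grind) (by grind) (by grind), dg_one]
  · rw [← rr_dg b (h := dg_rot b hc), ← rr_dg b (h := hc)]; group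
  · have : ∀ n, (dg b _ _ _ hc ^ n).1.1 = !![(σ μ ^ 2) ^ n, 0, 0; 0, μ ^ n, 0; 0, 0, μ ^ n] := fun n => by
      induction n with
      | zero => rw [pow_zero, O7.U3.one_val, Matrix.one_fin_three]; simp
      | succ n ih => rw [pow_succ, O7.U3.mul_val, ih, dg_val]; simp [pow_succ]
    refine sux ?_
    rw [this, ← pow_mul, mul_comm, pow_mul, ← map_pow, hμ.pow_eq_one, O7.U3.one_val, Matrix.one_fin_three]
    simp
  · rw [mul_inv_eq_iff_eq_mul.2 (dg_mul b (h := h3) (by grind) (by simp) (by grind)).symm] at m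
    exact hμ.pow_ne_one_of_pos_of_lt (by norm_num) (by omega) (dg_cen b m)

end K2u

open K2u O7.U3 in
/-- The statement of `Ev0.no_U3` (see `S6Q/K2b`). -/
theorem Ev0.no_U3' {K : Type*} [Field K] [IsAlgClosed K] {M : Subgroup (O (Q K))} {E : Type*} [Field E] [Fintype E]
    {q : ℕ} (hq : Fintype.card E = q ^ 2) (he : Even q) (h4 : 4 ≤ q) (h : Ev0 M)
    (e : M ≃* PSU 3 E q) : False := by
  obtain ⟨σ, b⟩ := Unitary.exists_isBar hq
  have h2 : (2 : E) = 0 := by
    obtain ⟨r, f, hr, hc, -, e1⟩ := Unitary.exists_prime_pow_of_card hq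
    obtain rfl : r = 2 := (Nat.Prime.even_iff hr).1 (Nat.even_pow.1 (e1 ▸ he)).1
    exact CharP.cast_eq_zero E 2
  obtain ⟨F, hF, k⟩ : ∃ F : SU 3 E q →* O (Q K), F.range = M ∧ F.ker ≤ Subgroup.center _ :=
    ⟨(emb e).comp (QuotientGroup.mk' _), by
      rw [MonoidHom.range_comp, QuotientGroup.range_mk', ← MonoidHom.range_eq_map, O7.range_emb],
      fun g hg => (QuotientGroup.eq_one_iff g).1 (O7.emb_injective e (hg.trans (map_one _).symm))⟩
  have mF : ∀ g, F g ∈ M := fun g => hF ▸ ⟨g, rfl⟩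
  obtain ⟨μ, hμ⟩ := b.exists_primitive_norm_one
  have hl : μ * σ μ = 1 := by rw [b.norm_eq, hμ.pow_eq_one]
  obtain ⟨c, c₂, c₃, cc, c1, r2, r3, o, nc, cu⟩ := exists_c b hμ h4
  have ho : Odd (q + 1) := he.add_one
  let t : Unitary.fixedField σ → O (Q K) := fun x => F (up b (zz b h2 n1 x))
  have ta : ∀ x y, t x * t y = t (x + y) := fun x y => by simp only [t, ← map_mul, zz_add]
  have t0 : t 0 = 1 := by simp only [t, zz_zero, map_one]
  have xx : ∀ x : Unitary.fixedField σ, x + x = 0 := fun x => Subtype.ext (show x.1 + x.1 = 0 by linear_combination x.1 * h2)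
  have tt : ∀ x, t x * t x = 1 := fun x => by rw [ta, xx, t0]
  have ct : ∀ x, Commute (F c) (t x) := fun x => (cu _).map F
  have oF : F c ^ (q + 1) = 1 := by rw [← map_pow, o, map_one]
  have three : ¬ (rk (sp2 h.two (F c)) ≤ 2 ∨ ∃ ν : Kˣ, ∀ (μ : K) (v : I6 → K), v ≠ 0 →
      (sp2 h.two (F c)).1 *ᵥ v = μ • v → μ = ν ∨ μ = ν⁻¹) := fun H => by
    let G := (sp2 h.two).comp F
    have e1 := no_three (c₁ := G c) (c₂ := G c₂) (c₃ := G c₃) (k := G (rr b)) (l := G (rr b * rr b))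
      (sp2_mem h.two _) (sp2_mem h.two _) (cc.map G) (by rw [← map_mul, ← map_mul, c1, map_one])
      (by rw [← map_inv, ← map_mul, ← map_mul, r2]) (by rw [← map_inv, ← map_mul, ← map_mul, r3]) ho
      (by obtain ⟨m, rfl⟩ := he; push_cast; rw [← two_mul, h.two]; simp) (by rw [← map_pow, o, map_one]) H
    exact nc (k (by rw [MonoidHom.mem_ker, map_mul, map_inv, mul_inv_eq_one]; exact (sp2_inj h.two e1).symm))
  have a2 : ∀ x, x ≠ 0 → ∃ a y, DL M a y ∧ t x = wd a y := fun x x0 => by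
    by_contra n
    obtain ⟨g, hg⟩ := exists_sq b h2 x
    have e1 : F g ^ 2 = t x := by rw [← map_pow, hg]
    have d := dm_sq h.two (g := F g) (by rw [show 4 = 2 * 2 from rfl, pow_mul, e1, pow_two, tt])
      (by rw [e1]; exact fun e => x0 (zz_ne b h2 (k e)))
    rw [e1] at d
    exact three (.inl (dm_eq_rk h.two _ ▸ dm_cent h.two (tt x) d
      (fun ⟨a, y, l, e⟩ => n ⟨a, y, ⟨l, e ▸ mF _⟩, e⟩) (ct x) ho oF))
  obtain ⟨a, y, l, e1⟩ := a2 1 one_ne_zero
  have ln1 : ∀ x, O.comm (t x) ≤ ln a y := fun x => by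
    by_cases x0 : x = 0
    · rw [x0, t0, O.comm_one]; exact bot_le
    by_cases x1 : x = 1
    · rw [x1, e1, l.1.comm h.two]
    obtain ⟨a', y', l', e2⟩ := a2 x x0
    obtain ⟨p, s, s', m, m', f, f', g, g'⟩ := DL.common h.two l l' (h.meet l l' (by
      rw [← e1, ← e2, Commute, SemiconjBy, ta, ta, add_comm]))
    obtain ⟨a'', y'', l'', e3⟩ := a2 (1 + x) fun e => x1 (by rw [← xx 1] at e; exact add_left_cancel e)
    have ps : B p (s + s') = 0 := by rw [B, polar_add_right]; exact (congrArg₂ _ m.1.p m'.1.p).trans (add_zero 0)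
    have sg := (A2.sing h.two m.1.qa m.1.ne ps ⟨_, _, l''.1, by
      rw [wd, eich_add m.1.qa m.1.p m'.1.p, ← e3, ← ta, e1, e2, ← f, ← f']⟩).qy
    rw [Q_add, m.1.qy, m'.1.qy, zero_add, zero_add] at sg
    rw [e2, l'.1.comm h.two, ← g', ← g]
    by_contra n
    refine three (.inr (eig_cent h.two m.1 m'.1 sg (fun i => n ?_) (by rw [f, ← e1]; exact ct _)
      (by rw [f', ← e2]; exact ct _)))
    rw [Submodule.span_le]
    rintro _ (rfl | rfl)
    exacts [mem_ln_l _ _, i]
  have μ1 : μ ≠ 1 := hμ.ne_one (by omega)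
  let L : SU 3 E q → Submodule K (V K) := fun g => (ln a y).map ((F g).1 : V K →ₗ[K] V K)
  have cL : ∀ g x, O.comm (F (g * up b (zz b h2 n1 x) * g⁻¹)) ≤ L g := fun g x => by
    rw [map_mul, map_mul, map_inv, O.comm_conj]; exact Submodule.map_mono (ln1 x)
  have fL : ∀ g, finrank K (L g) ≤ 2 := fun g => (Submodule.finrank_map_le _ _).trans (l.1.finrank).le
  have top := h.comm_top (X := ln a y ⊔ L (dg b _ _ _ (hdg hl)) ⊔ L (rr b))
    (S := {g | O.comm g ≤ ln a y ⊔ L (dg b _ _ _ (hdg hl)) ⊔ L (rr b)}) (by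
      rw [← hF]
      rintro _ ⟨g, rfl⟩
      exact gen3 b h2 (by omega) hl μ1 (A := (Subgroup.closure _).comap F)
        (fun x => Subgroup.subset_closure ((ln1 x).trans (le_sup_left.trans le_sup_left)))
        (fun x => Subgroup.subset_closure ((cL _ x).trans (le_sup_right.trans le_sup_left)))
        (fun x => Subgroup.subset_closure ((cL _ x).trans le_sup_right)) g) fun _ hg => hg
  have d1 := Submodule.finrank_add_le_finrank_add_finrank (ln a y ⊔ L (dg b _ _ _ (hdg hl))) (L (rr b))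
  have d2 := Submodule.finrank_add_le_finrank_add_finrank (ln a y) (L (dg b _ _ _ (hdg hl)))
  rw [top, finrank_top, O7.finrank_V] at d1
  have := fL (rr b)
  have := fL (dg b _ _ _ (hdg hl))
  have := l.1.finrank
  omega

end Cfsg.Lib.S6Q
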