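import Cfsg.Agent.Lib.S6Q.RI
import Cfsg.Agent.Lib.S6Q.K2a
import Cfsg.Agent.Lib.S6Q.K2u
import Cfsg.Agent.Lib.O7.L3
import Cfsg.Agent.Lib.O7.U3
import Cfsg.Agent.Lib.O7.Sp4
import Cfsg.Agent.Lib.Sz.Instances
import Cfsg.Agent.Lib.Sz.Local
import Cfsg.Agent.Lib.Sz.Classes

/-!
# Groups of Lie type in characteristic two
-/

set_option autoImplicit false

namespace Cfsg.Lib.S6Q

open scoped MatrixGroups Matrix commutatorElement
open QuadraticMap Module Cfsg.Lib.Orth Cfsg.Lib.Asch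
open Cfsg.Lib.O7 (V W Q N I7 Spin phi act gam sU dm fx stabS stabV dgV)

open O7.S4 Matrix in
/-- The Levi factor `SL₂ ≤ GL₂ ≤ Sp₄`. -/
def k2b_lev {E : Type*} [Field E] : SL(2, E) →* symplecticGroup (Fin 2) E :=
  MonoidHom.mk' (fun x => ⟨fromBlocks !![x 0 0, x 0 1; x 1 0, x 1 1] 0 0 !![x 1 1, -x 1 0; -x 0 1, x 0 0],
    SymplecticGroup.mem_iff.2 (m_ext (by
      have h1 := PSL2.sl_det x
      simp [J, mul_apply, Fin.forall_fin_two, Fintype.sum_sum_type]
      grind))⟩) fun a b => Subtype.ext (m_ext (by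
        simp [mul_apply, Fin.forall_fin_two, Fintype.sum_sum_type]
        grind))

open Matrix in
theorem k2b_coe {E : Type*} [Field E] (x : SL(2, E)) : (k2b_lev x).1 =
    fromBlocks !![x 0 0, x 0 1; x 1 0, x 1 1] 0 0 !![x 1 1, -x 1 0; -x 0 1, x 0 0] := rfl

open O7 O7.S4 Matrix in
theorem k2b_comm {E : Type*} [Field E] (A : SL(2, E)) (l : Eˣ) : Commute (k2b_lev A) (i12 (dS l, dS l)) :=
  Subtype.ext (m_ext (by
    simp [coe_mul', k2b_coe, coe_i12, Fin.forall_fin_two, mul_apply, Fintype.sum_sum_type]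
    simp [mul_comm]))

open O7 O7.S4 Matrix in
theorem k2b_dS {E : Type*} [Field E] (l : Eˣ) : k2b_lev (dS l) = i12 (dS l, dS l⁻¹) :=
  Subtype.ext (m_ext (by simp [k2b_coe, coe_i12, Fin.forall_fin_two]))

open O7 O7.S4 Matrix in
theorem k2b_wS {E : Type*} [Field E] [CharP E 2] : k2b_lev (wS E) = sw E :=
  Subtype.ext (m_ext (by simp [k2b_coe, sw, CharTwo.neg_eq]))

variable {K : Type*} [Field K] [IsAlgClosed K] {M : Subgroup (O (Q K))} {a y b z s s' p u : V K} {g t h : O (Q K)}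
  {E : Type*} [Field E] [Fintype E]

theorem k2b_sz {F G : Type*} [Field F] [Finite F] [Group G] (S : Sz.Model F G) (ht : ∃ t : F, t ≠ 0 ∧ t ≠ 1) {μ : Fˣ}
    (hμ : ∀ x, x ∈ Subgroup.zpowers μ) {X : Subgroup G} (hw : S.w ∈ X) (hh : S.h μ * S.w ∈ X) (hz : S.u 0 1 ∈ X) :
    X = ⊤ := by
  have h1 : S.h μ ∈ X := by simpa [mul_assoc] using X.mul_mem hh hw
  obtain ⟨t, t0, t1⟩ := ht
  obtain ⟨ν, hν⟩ := S.exists_h_conj_Z (one_ne_zero (α := F)) t0
  have h2 : S.h ν ∈ X := by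
    obtain ⟨n, rfl⟩ := hμ ν
    simpa using X.zpow_mem h1 n
  obtain ⟨L, hL, rfl⟩ := S.eq_sub hw hz (S.u_mem_Z 1) (by simp [S.u_eq_one])
    (hν ▸ X.mul_mem (X.mul_mem h2 hz) (X.inv_mem h2)) (S.u_mem_Z t) (by simp [S.u_eq_one, t0])
    (by simp [S.u_inj, t1.symm])
  rw [S.eq_top_of_orderOf hL h1 (by rw [S.orderOf_h, orderOf_eq_card_of_forall_mem_zpowers hμ, Nat.card_units]),
    S.sub_top]

/-- Involutions are squares (`dm_sq`), and `w`, `w h₀`, `z` generate: `⟨Z, H, w⟩ = G`. -/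
theorem Ev0.no_Sz (h : Ev0 M) (e : Lie.IsoSuzuki M) : False := by
  obtain ⟨F, _, _, m, hm, hF, ⟨e⟩⟩ := e
  let S := Sz.lieModel hF
  obtain ⟨μ, hμ⟩ := IsCyclic.exists_generator (α := Fˣ)
  have u1 : S.u 0 1 ≠ 1 := by simp [S.u_eq_one]
  have d0 : dm (emb e (S.u 0 1)) = 2 := by
    have e1 : emb e (S.u 0 1) = emb e (S.u 1 0) ^ 2 := by rw [← map_pow, pow_two, S.u_sq]; simp
    rw [e1]
    exact dm_sq h.two (by rw [← map_pow, S.u_pow_four, map_one])
      (by rw [← e1]; exact (map_ne_one_iff _ (O7.emb_injective e)).2 u1)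
  have d : ∀ x, x * x = 1 → x ∉ S.B → dm (emb e x) = 2 := fun x x2 x1 => by
    obtain ⟨c, rfl⟩ := isConj_iff.1 (S.isConj_of_sq (S.u_zero_sq 1) u1 x2 fun x0 => x1 (x0 ▸ S.B.one_mem))
    rw [map_mul, map_mul, map_inv, O7.dm_conj, d0]
  have d1 := d _ S.w_mul_w S.w_not_mem_B
  have d2 := d _ (S.h_mul_w_sq μ) fun hb => S.w_not_mem_B ((S.B.mul_mem_cancel_left (S.h_mem_B μ)).1 hb)
  have := h.le_sum [emb e S.w, emb e (S.h μ * S.w), emb e (S.u 0 1)] (by
    refine (O7.range_emb e).ge.trans ?_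
    rintro _ ⟨g, rfl⟩
    refine Subgroup.mem_comap.1 ((k2b_sz S (Sz.exists_ne_zero_ne_one hm hF) hμ ?_ ?_ ?_).ge (Subgroup.mem_top g)) <;>
      exact Subgroup.subset_closure (by simp))
  simp only [List.map_cons, List.map_nil, List.sum_cons, List.sum_nil] at this
  omega

/-- The involutions (one class) are squares, so `dm = 2`.  `c_i = diag(μ, .., μ⁻², ..)`, `μ ^ (q + 1) = 1 ≠ μ³`, centralises a
root group `Z`.  Type `c₂`: `dm_cent`, `no_three`.  Type `a₂`: the lines of `Z^#` meet and are perpendicular (`A2.sing`); if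
two differ, `eig_cent` and `no_three`; otherwise `[V, Z]` is a line and three conjugates of `Z` generate `M`. -/
theorem Ev0.no_U3 {q : ℕ} (hq : Fintype.card E = q ^ 2) (he : Even q) (h4 : 4 ≤ q) (h : Ev0 M)
    (e : M ≃* PSU 3 E q) : False :=
  h.no_U3' hq he h4 e

theorem k2b_gen [CharP E 2] {H : Subgroup SL(3, E)} {t : Eˣ} (ht : ∀ x, x ∈ Subgroup.zpowers t)
    (h01 : Matrix.SpecialLinearGroup.transvection (show (0 : Fin 3) ≠ 1 by decide) (1 : E) ∈ H)
    (h12 : Matrix.SpecialLinearGroup.transvection (show (1 : Fin 3) ≠ 2 by decide) (1 : E) ∈ H)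
    (h20 : Matrix.SpecialLinearGroup.transvection (show (2 : Fin 3) ≠ 0 by decide) (t : E) ∈ H) : H = ⊤ := by
  have k : ∀ {i j l : Fin 3} (hij : i ≠ j) (hjl : j ≠ l) (hil : i ≠ l) {c d : E},
      Matrix.SpecialLinearGroup.transvection hij c ∈ H → Matrix.SpecialLinearGroup.transvection hjl d ∈ H →
      Matrix.SpecialLinearGroup.transvection hil (c * d) ∈ H := fun hij hjl hil c d a b => by
    rw [← Linear.commutator_transvection hij hjl hil, commutatorElement_def]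
    exact H.mul_mem (H.mul_mem (H.mul_mem a b) (H.inv_mem a)) (H.inv_mem b)
  have h21 := k _ _ (show (2 : Fin 3) ≠ 1 by decide) h20 h01
  have h10 := k _ _ (show (1 : Fin 3) ≠ 0 by decide) h12 h20
  have a01 : ∀ c, Matrix.SpecialLinearGroup.transvection (show (0 : Fin 3) ≠ 1 by decide) c ∈ H := fun c => by
    by_cases c0 : c = 0
    · rw [c0, Matrix.SpecialLinearGroup.transvection_coeff_zero]; exact H.one_mem
    obtain ⟨n, hn⟩ := (Submonoid.mem_powers_iff _ _).1 (mem_powers_iff_mem_zpowers.2 (ht (Units.mk0 c c0)))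
    obtain rfl : (t : E) ^ n = c := by simpa using congrArg Units.val hn
    clear hn c0
    induction n with
    | zero => simpa using h01
    | succ n ih => simpa [pow_succ] using k _ _ _ (k _ _ (show (0 : Fin 3) ≠ 2 by decide) ih h12) h21
  have s : ∀ {i j l : Fin 3} (hij : i ≠ j) (hjl : j ≠ l) (hil : i ≠ l) (u : Eˣ),
      (Matrix.SpecialLinearGroup.transvection hij (u : E) ∈ H →
        (∀ c, Matrix.SpecialLinearGroup.transvection hjl c ∈ H) → ∀ c, Matrix.SpecialLinearGroup.transvection hil c ∈ H) ∧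
      ((∀ c, Matrix.SpecialLinearGroup.transvection hij c ∈ H) → Matrix.SpecialLinearGroup.transvection hjl (u : E) ∈ H →
        ∀ c, Matrix.SpecialLinearGroup.transvection hil c ∈ H) := fun hij hjl hil u =>
    ⟨fun a b c => by simpa using k hij hjl hil a (b ((u⁻¹ : Eˣ) * c)),
      fun a b c => by simpa using k hij hjl hil (a (c * (u⁻¹ : Eˣ))) b⟩
  have a02 := (s _ _ (show (0 : Fin 3) ≠ 2 by decide) 1).2 a01 h12
  have a21 := (s _ _ (show (2 : Fin 3) ≠ 1 by decide) t).1 h20 a01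
  have a12 := (s _ _ (show (1 : Fin 3) ≠ 2 by decide) t).1 (by simpa using h10) a02
  have a10 := (s _ _ (show (1 : Fin 3) ≠ 0 by decide) t).2 a12 h20
  have a20 := (s _ _ (show (2 : Fin 3) ≠ 0 by decide) t).2 a21 (by simpa using h10)
  refine Linear.eq_top_of_transvection_mem H fun i j h c => ?_
  fin_cases i <;> fin_cases j
  exacts [absurd rfl h, a01 c, a02 c, a10 c, absurd rfl h, a12 c, a20 c, a21 c, absurd rfl h]

omit [IsAlgClosed K] [Fintype E] in
theorem k2b_dm [CharP E 2] (h2 : (2 : K) = 0) (F : SL(3, E) →* O (Q K)) {i j l : Fin 3} (hij : i ≠ j) (hjl : j ≠ l)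
    (hil : i ≠ l) (c : E) : dm (F (Matrix.SpecialLinearGroup.transvection hil c)) ≤ 2 := by
  have sq : ∀ {i j : Fin 3} (h : i ≠ j) (c : E), Matrix.SpecialLinearGroup.transvection h c *
      Matrix.SpecialLinearGroup.transvection h c = 1 := fun h c => by
    rw [← Matrix.SpecialLinearGroup.transvection_add, CharTwo.add_self_eq_zero,
      Matrix.SpecialLinearGroup.transvection_coeff_zero]
  have e : (Matrix.SpecialLinearGroup.transvection hij c * Matrix.SpecialLinearGroup.transvection hjl (1 : E)) ^ 2 =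
      Matrix.SpecialLinearGroup.transvection hil c := by
    conv_rhs => rw [← mul_one c, ← Linear.commutator_transvection hij hjl hil, commutatorElement_def,
      inv_eq_of_mul_eq_one_right (sq hij c), inv_eq_of_mul_eq_one_right (sq hjl 1)]
    rw [pow_two, ← mul_assoc]
  rw [← e, map_pow]
  by_cases h1 : F (Matrix.SpecialLinearGroup.transvection hij c *
      Matrix.SpecialLinearGroup.transvection hjl (1 : E)) ^ 2 = 1
  · rw [O7.dm_eq_zero.2 h1]; omega
  · refine (dm_sq h2 ?_ h1).le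
    rw [show 4 = 2 * 2 from rfl, pow_mul, ← map_pow, e, pow_two, ← map_mul, sq, map_one]

/-- `q = 2`: `L₂(7)` (or `no_hur` directly); `q = 4`: `Cw.nine`; `q ≥ 8`: `dm_sq`, `dm_cent`, `no_three`. -/
theorem Ev.no_L3 [CharP E 2] (h : Ev M) (n : NA M) (e : M ≃* PSL(3, E)) : False := by
  let F : SL(3, E) →* O (Q K) := (emb e).comp (QuotientGroup.mk' _)
  have hr : F.range = M := by
    rw [MonoidHom.range_comp, QuotientGroup.range_mk', ← MonoidHom.range_eq_map, O7.range_emb]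
  obtain ⟨t, ht⟩ := IsCyclic.exists_generator (α := Eˣ)
  have d1 := k2b_dm h.two F (show (0 : Fin 3) ≠ 2 by decide) (show (2 : Fin 3) ≠ 1 by decide) (by decide) (1 : E)
  have d2 := k2b_dm h.two F (show (1 : Fin 3) ≠ 0 by decide) (show (0 : Fin 3) ≠ 2 by decide) (by decide) (1 : E)
  have d3 := k2b_dm h.two F (show (2 : Fin 3) ≠ 1 by decide) (show (1 : Fin 3) ≠ 0 by decide) (by decide) (t : E)
  have := h.toEv0.le_sum [F (Matrix.SpecialLinearGroup.transvection (show (0 : Fin 3) ≠ 1 by decide) (1 : E)),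
    F (Matrix.SpecialLinearGroup.transvection (show (1 : Fin 3) ≠ 2 by decide) (1 : E)),
    F (Matrix.SpecialLinearGroup.transvection (show (2 : Fin 3) ≠ 0 by decide) (t : E))] (by
      rw [← hr]
      rintro _ ⟨g, rfl⟩
      refine Subgroup.mem_comap.1 ((k2b_gen ht ?_ ?_ ?_).ge (Subgroup.mem_top g)) <;>
        exact Subgroup.subset_closure (by simp))
  simp only [List.map_cons, List.map_nil, List.sum_cons, List.sum_nil] at this
  omega

theorem k2b_eight {α : Type*} [DecidableEq α] (P : I6 → α) {l : List α} (nd : l.Nodup) (len : l.length = 8)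
    (h : ∀ x ∈ l, ∃ j, P j = x) : False := by
  have : l.toFinset ⊆ Finset.univ.image P := fun x hx => by
    obtain ⟨j, rfl⟩ := h x (List.mem_toFinset.1 hx)
    exact Finset.mem_image_of_mem _ (Finset.mem_univ j)
  have := (Finset.card_le_card this).trans Finset.card_image_le
  rw [List.toFinset_card_of_nodup nd, len] at this
  simp at this

theorem k2b_types {G : Type*} [CommGroup G] (a b : I6 → G) (o : ∀ j, a j * a j = 1 → a j = 1)
    (o' : ∀ j, b j * b j = 1 → b j = 1) (hs : ∀ j, ∃ i, a i = b j ∧ b i = a j) (hw : ∀ j, ∃ i, a i = (a j)⁻¹ ∧ b i = b j) :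
    (∀ j, a j = 1 ∨ b j = 1) ∨ ∀ j, a j * b j = 1 ∨ (a j)⁻¹ * b j = 1 := by
  classical
  let R : G × G → Prop := fun x => ∃ j, (a j, b j) = x
  have s : ∀ {x y}, R (x, y) → R (y, x) := by
    rintro x y ⟨j, e⟩
    obtain ⟨rfl, rfl⟩ := Prod.mk.inj e
    obtain ⟨i, h1, h2⟩ := hs j
    exact ⟨i, Prod.ext h1 h2⟩
  have w : ∀ {x y}, R (x, y) → R (x⁻¹, y) := by
    rintro x y ⟨j, e⟩
    obtain ⟨rfl, rfl⟩ := Prod.mk.inj e
    obtain ⟨i, h1, h2⟩ := hw j
    exact ⟨i, Prod.ext h1 h2⟩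
  have gen : ∀ j, (a j = 1 ∨ b j = 1) ∨ (a j * b j = 1 ∨ (a j)⁻¹ * b j = 1) := fun j => by
    by_contra! c
    obtain ⟨⟨c1, c2⟩, c3, c4⟩ := c
    have r : R (a j, b j) := ⟨j, rfl⟩
    have n1 : a j ≠ (a j)⁻¹ := fun e => c1 (o j (mul_eq_one_iff_eq_inv.2 e))
    have n2 : b j ≠ (b j)⁻¹ := fun e => c2 (o' j (mul_eq_one_iff_eq_inv.2 e))
    have n3 : a j ≠ (b j)⁻¹ := fun e => c3 (mul_eq_one_iff_eq_inv.2 e)
    have n4 : a j ≠ b j := fun e => c4 (inv_mul_eq_one.2 e)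
    have n5 : (a j)⁻¹ ≠ b j := fun e => n3 (inv_eq_iff_eq_inv.1 e)
    generalize a j = x, b j = y at r n1 n2 n3 n4 n5
    refine k2b_eight (fun j => (a j, b j)) (l := [(x, y), (x⁻¹, y), (x, y⁻¹), (x⁻¹, y⁻¹), (y, x), (y⁻¹, x), (y, x⁻¹),
      (y⁻¹, x⁻¹)]) (by simp [n1, n2, n3, n4, n5, n1.symm, n2.symm, n3.symm, n4.symm, n5.symm]) rfl ?_
    simp only [List.mem_cons, List.not_mem_nil, or_false, forall_eq_or_imp, forall_eq]
    exact ⟨r, w r, s (w (s r)), w (s (w (s r))), s r, w (s r), s (w r), w (s (w r))⟩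
  by_contra! c
  obtain ⟨⟨i, c1, c2⟩, j, c3, c4⟩ := c
  obtain ⟨x, x1, x2, r⟩ : ∃ x, x ≠ 1 ∧ x ≠ x⁻¹ ∧ R (x, 1) := by
    rcases (gen j).resolve_right (not_or.2 ⟨c3, c4⟩) with e | e
    · rw [e, one_mul] at c3
      exact ⟨b j, c3, fun h => c3 (o' j (mul_eq_one_iff_eq_inv.2 h)), s ⟨j, by rw [e]⟩⟩
    · rw [e, mul_one] at c3
      exact ⟨a j, c3, fun h => c3 (o j (mul_eq_one_iff_eq_inv.2 h)), ⟨j, by rw [e]⟩⟩
  obtain ⟨y, y1, y2, r'⟩ : ∃ y, y ≠ 1 ∧ y ≠ y⁻¹ ∧ R (y, y) := by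
    refine ⟨b i, c2, fun h => c2 (o' i (mul_eq_one_iff_eq_inv.2 h)), ?_⟩
    rcases (gen i).resolve_left (not_or.2 ⟨c1, c2⟩) with e | e
    · have := w ⟨i, rfl⟩
      rwa [inv_eq_of_mul_eq_one_right e] at this
    · exact ⟨i, by rw [inv_mul_eq_one.1 e]⟩
  refine k2b_eight (fun j => (a j, b j)) (l := [(x, 1), (x⁻¹, 1), (1, x), (1, x⁻¹), (y, y), (y⁻¹, y), (y, y⁻¹),
    (y⁻¹, y⁻¹)]) (by simp [x1, x2, y1, y2, x1.symm, y1.symm, y2.symm]) rfl ?_
  simp only [List.mem_cons, List.not_mem_nil, or_false, forall_eq_or_imp, forall_eq]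
  exact ⟨r, w r, s r, s (w r), r', w r', s (w r'), w (s (w r'))⟩

omit [IsAlgClosed K] in
theorem k2b_rk {μ ν : Fin 3 → Kˣ} (h : ∀ i, μ i = 1 ∨ ν i = 1) (e : rk (tor μ) = rk (tor ν)) (n : tor μ ≠ 1) :
    rk (tor μ) = 2 := by
  classical
  have h0 := mt rk_eq_zero.1 n
  rw [rk_tor] at h0 ⊢
  rw [rk_tor, rk_tor] at e
  have d : Disjoint (Finset.univ.filter fun i => μ i ≠ 1) (Finset.univ.filter fun i => ν i ≠ 1) :=
    Finset.disjoint_filter.2 fun i _ a b => (h i).elim a b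
  have := Finset.card_le_univ _ |>.trans_eq' (Finset.card_union_of_disjoint d)
  rw [Fintype.card_fin] at this
  omega

omit [IsAlgClosed K] in
theorem k2b_pow {k g : G6 K} {μ : Fin 3 → Kˣ} (e : k * g * k⁻¹ = tor μ) {r : ℕ} (ho : Odd r) (h : g ^ r = 1) (j : I6)
    (s : t1w μ j * t1w μ j = 1) : t1w μ j = 1 := by
  have h1 : μ ^ r = 1 := tor_inj (by rw [map_pow, ← e, conj_pow, h, map_one]; simp)
  have h2 : t1w μ j ^ r = 1 := by
    rcases j with j | j
    · exact congrFun h1 j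
    · change (μ j)⁻¹ ^ r = 1
      rw [inv_pow, inv_eq_one]; exact congrFun h1 j
  obtain ⟨m, rfl⟩ := ho
  rwa [pow_succ, pow_mul, pow_two, s, one_pow, one_mul] at h2

/-- `Z_r² : D₈`: orbits of nontrivial weights have length `4` or `8`. -/
theorem Cw.d8 {X : Type*} [Group X] {Y : Subgroup (G6 K)} {π : Y →* X} (h : Cw Y π) {r : ℕ} (hr : r.Prime) (ho : Odd r)
    (hK : (r : K) ≠ 0) {x y : Y} {s w : X} (hx : x.1 ^ r = 1) (hy : y.1 ^ r = 1) (c : Commute (π x) (π y))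
    (n : π y ∉ Subgroup.zpowers (π x)) (sx : s * π x * s⁻¹ = π y) (sy : s * π y * s⁻¹ = π x)
    (wx : w * π x * w⁻¹ = (π x)⁻¹) (wy : w * π y * w⁻¹ = π y) : rk x.1 = 2 ∨ rk (x.1 * y.1) = 2 := by
  obtain ⟨s, rfl⟩ := h.surj s
  obtain ⟨w, rfl⟩ := h.surj w
  have c' := h.commute ho hy c
  have e1 := h.conj ho hx hy sx
  have e2 := h.conj ho hy hx sy
  have e3 : w.1 * x.1 * w.1⁻¹ = x.1⁻¹ := h.conj (g' := x⁻¹) ho hx (by
    change x.1⁻¹ ^ r = 1
    rw [inv_pow, hx, inv_one]) (by rw [map_inv]; exact wx)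
  have e4 := h.conj ho hy hy wy
  obtain ⟨k, -, μ, ν, k1, k2⟩ := exists_conj_tor₂ (h.sp x.2) (h.sp y.2) hx hy hK c'
  have k3 : k * x.1⁻¹ * k⁻¹ = tor μ⁻¹ := by rw [map_inv, ← k1]; group
  have k4 : k * (x.1 * y.1) * k⁻¹ = tor (μ * ν) := by rw [map_mul, ← k1, ← k2]; group
  have k5 : k * (x.1⁻¹ * y.1) * k⁻¹ = tor (μ⁻¹ * ν) := by rw [map_mul, ← k3, ← k2]; group
  obtain ⟨σ, hσ⟩ := t1_perm k s.1
  obtain ⟨τ, hτ⟩ := t1_perm k w.1
  have ne : ∀ (m : ℤ) {ρ : Fin 3 → Kˣ}, k * (x.1 ^ m * y.1) * k⁻¹ = tor ρ → tor ρ ≠ 1 := fun m ρ e e' => n (by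
    rw [e', mul_inv_eq_one, mul_eq_left] at e
    have : y = x ^ (-m) := Subtype.ext (by rw [Subgroup.coe_zpow, zpow_neg]; exact eq_inv_of_mul_eq_one_right e)
    rw [this, map_zpow]
    exact Subgroup.zpow_mem_zpowers _ _)
  rcases k2b_types (t1w μ) (t1w ν) (k2b_pow k1 ho hx) (k2b_pow k2 ho hy)
    (fun j => ⟨σ j, hσ k2 k1 e2 j, hσ k1 k2 e1 j⟩) (fun j => ⟨τ j, by
      rw [← hτ k1 k3 e3 j]
      rcases τ j with i | i <;> simp [t1w], hτ k2 k2 e4 j⟩) with t | t
  · left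
    rw [← rk_conj _ k, k1]
    refine k2b_rk (ν := ν) (fun i => t (.inl i)) (by rw [← k1, ← k2, rk_conj, rk_conj, ← e1, rk_conj]) fun e => ?_
    rw [← k1, mul_inv_eq_one, mul_eq_left] at e
    refine ne 0 (by rw [zpow_zero, one_mul]; exact k2) ?_
    rw [← k2, ← e1, e]; group
  · right
    rw [← rk_conj _ k, k4]
    refine k2b_rk (ν := μ⁻¹ * ν) (fun i => t (.inl i)) ?_ (ne 1 (by rw [zpow_one]; exact k4))
    rw [← k4, ← k5, rk_conj, rk_conj, ← rk_conj _ w.1, ← e3]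
    conv_rhs => rw [← e4]
    congr 1
    group

omit [IsAlgClosed K] in
theorem om_add_l' (u v w : I6 → K) : om K (u + v) w = om K u w + om K v w := by simp [om, sympForm]

omit [IsAlgClosed K] in
theorem om_add_r' (u v w : I6 → K) : om K u (v + w) = om K u v + om K u w := by simp [om, sympForm, Matrix.mulVec_add]

/-- `V₆ = U_x ⊥ U_y ⊥ V₀`; `L` centralises `x y`, so acts on `V₀`, where `x y⁻¹` is trivial: `L` is trivial there.  So `s`
interchanges `U_x`, `U_y` and fixes `V₀`: `a2_of_alt`. -/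
theorem a2_of_swap (h2 : (2 : K) = 0) {x y s : O (Q K)} {r : ℕ} (ho : Odd r) (hx : x ^ r = 1) (c : Commute x y)
    (dx : dm x = 2) (n : y ≠ x) (n' : y ≠ x⁻¹) (s2 : s * s = 1) (e : s * x * s⁻¹ = y) {L : Subgroup (O (Q K))}
    [IsSimpleGroup L] (hs : s ∈ L) (m : x * y⁻¹ ∈ L) (cL : ∀ g ∈ L, Commute g (x * y)) : A2 s := by
  classical
  have hy : y ^ r = 1 := by rw [← e, conj_pow, hx]; simp
  have si : s⁻¹ = s := inv_eq_of_mul_eq_one_right s2
  have e' : s * y * s⁻¹ = x := by rw [← e, si, ← mul_assoc, ← mul_assoc, s2, one_mul, mul_assoc, s2, mul_one]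
  obtain ⟨k, hk, μ, ν, k1, k2⟩ := exists_conj_tor₂ (sp2_mem h2 x) (sp2_mem h2 y) (by rw [← map_pow, hx, map_one])
    (by rw [← map_pow, hy, map_one]) (odd_ne h2 ho) (c.map _)
  let f : O (Q K) →* G6 K := (MulAut.conj k).toMonoidHom.comp (sp2 h2)
  have hf : ∀ g, f g = k * sp2 h2 g * k⁻¹ := fun g => rfl
  have inj : Function.Injective f := (MulAut.conj k).injective.comp (sp2_inj h2)
  replace k1 : f x = tor μ := k1
  replace k2 : f y = tor ν := k2
  have d1 : (Finset.univ.filter fun i => μ i ≠ 1).card = 1 := by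
    rw [dm_eq_rk h2, ← rk_conj _ k, ← hf, k1, rk_tor] at dx; omega
  have d2 : (Finset.univ.filter fun i => ν i ≠ 1).card = 1 := by
    rw [← O7.dm_conj x s, e, dm_eq_rk h2, ← rk_conj _ k, ← hf, k2, rk_tor] at dx; omega
  have key : ∀ i, μ i * ν i = 1 → μ i = 1 ∧ ν i = 1 := fun i h => by
    by_contra c
    have c1 : μ i ≠ 1 := fun a => c ⟨a, by rwa [a, one_mul] at h⟩
    have c2 : ν i ≠ 1 := fun a => c1 (by rwa [a, mul_one] at h)
    refine n' (inj ?_)
    rw [map_inv, k1, k2, ← map_inv]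
    congr 1
    funext j
    by_cases ij : j = i
    · rw [ij]; exact eq_inv_of_mul_eq_one_right h
    · have u : ∀ ρ : Fin 3 → Kˣ, (Finset.univ.filter fun i => ρ i ≠ 1).card = 1 → ρ i ≠ 1 → ρ j = 1 := fun ρ a b =>
        by_contra fun d => ij (Finset.card_le_one.1 a.le j (by simpa using d) i (by simpa using b))
      rw [Pi.inv_apply, u μ d1 c1, u ν d2 c2, inv_one]
  have key' : ∀ j, t1w μ j * t1w ν j = 1 → t1w μ j = 1 ∧ t1w ν j = 1 := by
    rintro (j | j) h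
    · exact key j h
    · change (μ j)⁻¹ * (ν j)⁻¹ = 1 at h
      rw [← mul_inv, inv_eq_one] at h
      exact ⟨inv_eq_one.2 (key j h).1, inv_eq_one.2 (key j h).2⟩
  have ap : ∀ (ρ : Fin 3 → Kˣ) (v : I6 → K) (j : I6), T2.lv (tor ρ) v j = t1w ρ j * v j := fun ρ v j => by
    rw [T2.lv_apply, tor_eq, Q4R.dg_val, Matrix.mulVec_diagonal]
  have ml : ∀ (ρ ρ' : Fin 3 → Kˣ) (j : I6), t1w (ρ * ρ') j = t1w ρ j * t1w ρ' j := by
    rintro ρ ρ' (j | j)
    · rfl
    · exact mul_inv _ _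
  let φ : O (Q K) →* End K (I6 → K) := T2.lv.comp f
  have mu : ∀ g g' v, φ (g * g') v = φ g (φ g' v) := fun g g' v => by rw [map_mul]; rfl
  let N : Subgroup L :=
    { carrier := {g | ∀ v, φ (x * y) v = v → φ g.1 v = v}
      one_mem' := fun v _ => by rw [OneMemClass.coe_one, map_one]; rfl
      mul_mem' := fun {a b} ha hb v hv => by rw [Subgroup.coe_mul, mu, hb v hv, ha v hv]
      inv_mem' := fun {a} ha v hv => by
        conv_lhs => rw [← ha v hv]
        rw [← mu, ← Subgroup.coe_mul, inv_mul_cancel, OneMemClass.coe_one, map_one]; rfl }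
  have hN : N.Normal := ⟨fun g hg l v hv => by
    have : φ (x * y) (φ l⁻¹.1 v) = φ l⁻¹.1 v := by rw [← mu, ← (cL _ l⁻¹.2).eq, mu, hv]
    rw [Subgroup.coe_mul, Subgroup.coe_mul, mu, mu, hg _ this, ← mu, ← Subgroup.coe_mul, mul_inv_cancel,
      OneMemClass.coe_one, map_one]; rfl⟩
  have xy : φ (x * y) = T2.lv (tor (μ * ν)) := by
    change T2.lv (f _) = _
    rw [map_mul, k1, k2, ← map_mul]
  have mN : (⟨_, m⟩ : L) ∈ N := fun v hv => by
    suffices φ y v = v ∧ φ x v = v by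
      conv_lhs => rw [← this.1]
      rw [← mu, inv_mul_cancel_right, this.2]
    change T2.lv (f y) v = v ∧ T2.lv (f x) v = v
    rw [k1, k2]
    have : ∀ j, v j = 0 ∨ t1w μ j = 1 ∧ t1w ν j = 1 := fun j => or_iff_not_imp_left.2 fun h => key' j (by
      have := congrFun hv j
      rw [xy, ap, mul_eq_right₀ h, ml] at this
      exact Units.ext this)
    constructor <;> funext j <;> rw [ap] <;> rcases this j with h | h <;> simp [h]
  have top : N = ⊤ := (hN.eq_bot_or_eq_top).resolve_left fun h => by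
    rw [h, Subgroup.mem_bot, Subtype.ext_iff] at mN
    exact n (mul_inv_eq_one.1 mN).symm
  have sN : (⟨s, hs⟩ : L) ∈ N := top ▸ Subgroup.mem_top _
  have sp : f s ∈ Sp K := mul_mem (mul_mem hk (sp2_mem h2 s)) (inv_mem hk)
  have anti : ∀ u v, om K u (φ s v) = -om K v (φ s u) := fun u v => by
    rw [← mem_Sp.1 sp u, alt_om.skew]
    congr 2
    change φ s (φ s v) = v
    rw [← mu, s2, map_one]; rfl
  have all : ∀ v, om K v (φ s v) = 0 := fun v => by
    induction v using Pi.single_induction with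
    | zero => simp [om, sympForm]
    | add u v hu hv => rw [map_add, om_add_l', om_add_r', om_add_r', hu, hv, anti u v]; ring
    | single j c =>
      have z : (f s).1 (j.swap) j = 0 := by_contra fun z => by
        have a1 := dg_entry (n := f s) (a := t1w μ) (b := t1w ν) (by
          rw [← tor_eq, ← tor_eq, ← k1, ← k2, ← map_inv, ← map_mul, ← map_mul, e]) z
        have a2 : t1w μ j = 1 ∧ t1w ν j = 1 := key' j (by
          rw [← a1]; rcases j with j | j <;> simp [t1w])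
        have a3 := congrFun (sN (Pi.single j 1) (by
          funext i
          rw [xy, ap, ml]
          by_cases ij : i = j
          · rw [ij, a2.1, a2.2]; simp
          · simp [Pi.single_eq_of_ne ij])) j.swap
        change ((f s).1 *ᵥ Pi.single j 1) j.swap = _ at a3
        rw [Matrix.mulVec_single_one, Pi.single_eq_of_ne (by rcases j with j | j <;> simp)] at a3
        exact z a3
      change om K _ ((f s).1 *ᵥ _) = 0
      generalize (f s).1 = A at z
      rcases j with j | j <;> simp [om, sympForm, Matrix.J, Matrix.mulVec_single, Matrix.fromBlocks_mulVec,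
        Matrix.neg_mulVec] <;> exact .inr z
  refine (a2_of_alt h2 fun v => ?_).resolve_left fun h => n (by rw [← e, h]; simp)
  rw [B_eq h2, ← sp2_pr, ← mem_Sp.1 hk, ← all (k.1 *ᵥ pr v)]
  congr 1
  change _ = (k * sp2 h2 s * k⁻¹).1 *ᵥ _
  rw [Matrix.mulVec_mulVec, Matrix.mulVec_mulVec, ← Units.val_mul, ← Units.val_mul, inv_mul_cancel_right]

theorem k2b_swap [CharP E 2] (h4 : 4 ≤ Fintype.card E) (h : Ev0 M) (n : NA M) {ψ : SL(2, E) →* M}
    (inj : Function.Injective ψ) {x y : M} {r : ℕ} (ho : Odd r) (hx : x ^ r = 1) (c : Commute x y) (dx : dm x.1 = 2)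
    (n1 : y ≠ x) (n2 : y ≠ x⁻¹) (e : ψ (O7.wS E) * x * (ψ (O7.wS E))⁻¹ = y) {A : SL(2, E)} (m : x * y⁻¹ = ψ A)
    (cL : ∀ A, Commute (ψ A) (x * y)) : False := by
  obtain ⟨i⟩ := PSL2.equiv_sl_psl_of_even (F := E) (mt PSL2.two_ne_zero_iff_odd.2 (not_not.2 CharTwo.two_eq_zero))
  have := PSL2.isSimpleGroup_psl (F := E) (by rwa [Nat.card_eq_fintype_card])
  have : IsSimpleGroup SL(2, E) := i.isSimpleGroup
  have : IsSimpleGroup (M.subtype.comp ψ).range :=
    (MonoidHom.ofInjective (f := M.subtype.comp ψ) (M.subtype_injective.comp inj)).symm.isSimpleGroup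
  obtain ⟨a, b, l, e'⟩ := a2_of_swap h.two (x := x.1) (y := y.1) (s := ψ (O7.wS E)) (L := (M.subtype.comp ψ).range) ho
    (congrArg Subtype.val hx) (c.map M.subtype) dx (fun a => n1 (Subtype.ext a)) (fun a => n2 (Subtype.ext a)) (by
      rw [← Subgroup.coe_mul, ← map_mul, O7.wS_sq, show (-1 : SL(2, E)) = 1 from PSL2.sl_ext (by simp [CharTwo.neg_eq])
        (by simp) (by simp) (by simp [CharTwo.neg_eq]), map_one, OneMemClass.coe_one]) (congrArg Subtype.val e) ⟨_, rfl⟩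
    ⟨A, (congrArg Subtype.val m).symm⟩ (by rintro _ ⟨B, rfl⟩; exact (cL B).map M.subtype)
  exact n a b ⟨l, e' ▸ (ψ _).2⟩

open O7 O7.S4 Matrix in
/-- `r ∣ q - 1`, `x = (λ, 1)`, `y = (1, λ)` in the torus, `s` the swap (in the Levi `SL₂(q)` of `GL₂(q)`), `w ∈ SL₂(q) × 1`;
in the second case of `d8` use `x y`, `x⁻¹ y`, `w` and `L = SL₂(q) × 1`. -/
theorem Ev0.no_Sp4 [CharP E 2] (h4 : 4 ≤ Fintype.card E) (h : Ev0 M) (n : NA M) (e : M ≃* PSp 2 E) : False := by
  let F : symplecticGroup (Fin 2) E →* M := e.symm.toMonoidHom.comp (QuotientGroup.mk' _)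
  have inj : Function.Injective F := (injective_iff_map_eq_one _).2 fun g hg => by
    have := (QuotientGroup.eq_one_iff g).1 (e.symm.injective (hg.trans (map_one _).symm))
    refine ((Symp.mem_center_sp_iff g).1 this).elim id fun a => a.trans (Subtype.ext (m_ext ?_))
    simp [CharTwo.neg_eq]
  have ev : Even (Fintype.card E) := FiniteField.even_card_iff_char_two.1 (ringChar.eq E 2) |> Nat.even_iff.2
  obtain ⟨r, hr, d⟩ := Nat.exists_prime_and_dvd (n := Fintype.card E - 1) (by omega)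
  have ho : Odd r := Odd.of_dvd_nat (Nat.Even.sub_odd (by omega) ev odd_one) d
  have := Fact.mk hr
  obtain ⟨l, hl⟩ := exists_prime_orderOf_dvd_card' (G := Eˣ) r (by
    rwa [Nat.card_units, Nat.card_eq_fintype_card])
  have l1 : l ^ r = 1 := hl ▸ pow_orderOf_eq_one l
  have l2 : l * l ≠ 1 := fun a => by
    have := orderOf_dvd_of_pow_eq_one (n := 2) ((pow_two l).trans a)
    rw [hl, Nat.prime_dvd_prime_iff_eq hr Nat.prime_two] at this
    rw [this] at ho
    exact absurd ho (by decide)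
  let D : Eˣ →* SL(2, E) := MonoidHom.mk' dS fun a b => (dS_mul a b).symm
  let T : Eˣ × Eˣ →* M := F.comp (i12.comp (D.prodMap D))
  have hT : ∀ a b, T (a, b) = F (i12 (dS a, dS b)) := fun a b => rfl
  have iT : Function.Injective T := inj.comp fun a b c => by
    have c0 := congrArg (fun g : symplecticGroup (Fin 2) E => g.1 (.inl 0) (.inl 0)) c
    have c1 := congrArg (fun g : symplecticGroup (Fin 2) E => g.1 (.inl 1) (.inl 1)) c
    exact Prod.ext (Units.ext c0) (Units.ext c1)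
  have cT : ∀ a b, Commute (T a) (T b) := fun a b => (Commute.all a b).map T
  have sT : ∀ a b, F (sw E) * T (a, b) * (F (sw E))⁻¹ = T (b, a) := fun a b => by
    rw [hT, hT, ← map_inv, ← map_mul, ← map_mul, sw_i12]
  have wT : ∀ a b, F (i1 (wS E)) * T (a, b) * (F (i1 (wS E)))⁻¹ = T (a⁻¹, b) := fun a b => by
    rw [mul_inv_eq_iff_eq_mul, hT, hT, i1_apply, ← map_mul, ← map_mul, ← map_mul, ← map_mul, Prod.mk_mul_mk,
      Prod.mk_mul_mk, wS_dS, one_mul, mul_one]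
  have pT : ∀ a b, a ^ r = 1 → b ^ r = 1 → T (a, b) ^ r = 1 := fun a b ha hb => by
    rw [← map_pow, Prod.pow_mk, ha, hb]; exact map_one T
  have l0 : l ≠ 1 := fun a => l2 (by rw [a, one_mul])
  obtain ⟨π, hc, -, hπ⟩ := h.cw (MulEquiv.refl M)
  have pw : ∀ g : M, g ^ r = 1 → sp2 h.two g.1 ^ r = 1 := fun g hg => by
    rw [← map_pow, ← Subgroup.coe_pow, hg, OneMemClass.coe_one, map_one]
  rcases hc.d8 hr ho (odd_ne h.two ho) (x := ⟨sp2 h.two (T (l, 1)).1, _, (T (l, 1)).2, rfl⟩)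
    (y := ⟨sp2 h.two (T (1, l)).1, _, (T (1, l)).2, rfl⟩) (s := F (sw E)) (w := F (i1 (wS E)))
    (pw _ (pT _ _ l1 (one_pow r))) (pw _ (pT _ _ (one_pow r) l1)) (by rw [hπ, hπ]; exact cT _ _) (by
      rw [hπ, hπ]
      rintro ⟨k, hk⟩
      change T (l, 1) ^ k = T (1, l) at hk
      rw [← map_zpow] at hk
      exact l0 (by simpa using (congrArg Prod.snd (iT hk)).symm)) (by rw [hπ, hπ]; exact sT _ _)
    (by rw [hπ, hπ]; exact sT _ _) (by rw [hπ]; exact (wT _ _).trans ((congrArg T (by simp)).trans (map_inv T _)))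
    (by rw [hπ]; exact (wT _ _).trans (by simp)) with d | d
  · refine k2b_swap h4 h n (ψ := F.comp k2b_lev) (inj.comp fun a b c => ?_) ho (pT _ _ l1 (one_pow r)) (cT _ (1, l))
      ((dm_eq_rk h.two _).trans d) (fun a => l0 (congrArg Prod.snd (iT a))) (fun a => ?_) ?_ (A := dS l) ?_ fun A => ?_
    · have k := fun i j => congrArg (fun g : symplecticGroup (Fin 2) E => g.1 (.inl i) (.inl j)) c
      exact PSL2.sl_ext (k 0 0) (k 0 1) (k 1 0) (k 1 1)
    · rw [← map_inv] at a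
      exact l0 (by simpa using congrArg Prod.snd (iT a))
    · rw [MonoidHom.comp_apply, k2b_wS, sT]
    · rw [← map_inv, ← map_mul, Prod.inv_mk, Prod.mk_mul_mk, inv_one, mul_one, one_mul, hT, ← k2b_dS]; rfl
    · rw [← map_mul]
      rw [Prod.mk_mul_mk, mul_one, one_mul, hT]
      exact (k2b_comm A l).map F
  · refine k2b_swap h4 h n (ψ := F.comp i1) (inj.comp fun a b c => ?_) (x := T (l, l)) (y := T (l⁻¹, l)) ho
      (pT _ _ l1 l1) (cT _ _) ?_ (fun a => l2 (mul_eq_one_iff_inv_eq.2 (congrArg Prod.fst (iT a)))) (fun a => ?_)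
      (wT _ _) (A := dS (l * l)) ?_ fun A => ?_
    · have k := fun i j => congrArg (fun g : symplecticGroup (Fin 2) E => g.1 i j) c
      exact PSL2.sl_ext (k (.inl 0) (.inl 0)) (k (.inl 0) (.inr 0)) (k (.inr 0) (.inl 0)) (k (.inr 0) (.inr 0))
    · rw [dm_eq_rk h.two, ← d, ← map_mul, ← Subgroup.coe_mul, ← map_mul, Prod.mk_mul_mk, mul_one, one_mul]
    · rw [← map_inv] at a
      exact l2 (mul_eq_one_iff_eq_inv.2 (congrArg Prod.snd (iT a)))
    · rw [← map_inv, ← map_mul, Prod.inv_mk, Prod.mk_mul_mk, inv_inv, mul_inv_cancel, hT, dS_one]; rfl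
    · rw [← map_mul, Prod.mk_mul_mk, mul_inv_cancel, hT, dS_one]
      exact ((Commute.prod (Commute.one_right A) (Commute.one_left _)).map i12).map F

end Cfsg.Lib.S6Q
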