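import Cfsg.Agent.Lib.S6Q.Geo2
import Cfsg.Agent.S5045
import Cfsg.Agent.S5054
import Cfsg.Agent.S5044
import Cfsg.Agent.Lib.ZStar.Main

/-!
# The involutions of type `a₂` form a class of root involutions
-/

set_option autoImplicit false

namespace Cfsg.Lib.S6Q

open scoped MatrixGroups Matrix commutatorElement
open QuadraticMap Module Cfsg.Lib.Orth Cfsg.Lib.Asch
open Cfsg.Lib.O7 (V W Q N I7 Spin phi act gam sU dm fx stabS stabV dgV)

variable {K : Type*} [Field K] {M : Subgroup (O (Q K))} {a y b z s s' p : V K} {g t h : O (Q K)}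

/-- The involutions of type `a₂` in `M`. -/
def DD (M : Subgroup (O (Q K))) : Set M := {g | A2 g.1}

theorem DL.mem (l : DL M a y) : (⟨wd a y, l.2⟩ : M) ∈ DD M := ⟨a, y, l.1, rfl⟩

theorem DD.ex {d : M} (hd : d ∈ DD M) : ∃ a y, ∃ l : DL M a y, d = ⟨wd a y, l.2⟩ :=
  let ⟨a, y, l, e⟩ := hd
  ⟨a, y, ⟨l, e ▸ d.2⟩, Subtype.ext e⟩

theorem Ev0.gen_DL (h : Ev0 M) (l : DL M a y) : Subgroup.closure {g | ∃ b z, DL M b z ∧ g = wd b z} = M := by
  refine h.gen ?_ ?_ ⟨_, ⟨a, y, l, rfl⟩, l.1.ne_one h.two⟩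
  · rintro _ ⟨b, z, l', rfl⟩; exact l'.2
  · rintro g hg _ ⟨b, z, l', rfl⟩; exact ⟨_, _, l'.conj hg, conj_eich g b z⟩

theorem Ev0.fin_ord (h : Ev0 M) (hg : g ∈ M) : IsOfFinOrder g :=
  have := h.fin
  (Submonoid.isOfFinOrder_coe (x := (⟨g, hg⟩ : M.toSubmonoid))).2 (isOfFinOrder_of_finite (⟨g, hg⟩ : M))

theorem Ev0.odd (h : Ev0 M) (l : DL M a y) (l' : DL M b z) (k : kap a y b z ≠ 0) :
    Odd (orderOf (wd a y * wd b z)) ∧ ¬ Commute (wd a y) (wd b z) :=
  l.1.odd h.two l'.1 k (h.fin_ord (M.mul_mem l.2 l'.2))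

/-- Commuting members have meeting lines. -/
theorem Ev0.meet (h : Ev0 M) (l : DL M a y) (l' : DL M b z) (c : Commute (wd a y) (wd b z)) :
    ln a y ⊓ ln b z ≠ ⊥ := fun m => by
  by_cases k : kap a y b z = 0
  · have := orderOf_dvd_of_pow_eq_one (x := wd a y * wd b z) (n := 2)
      (by rw [c.mul_pow, pow_two, pow_two, wd_sq h.two, wd_sq h.two, one_mul])
    rw [(l.1.order_four h.two l'.1 m k).1] at this
    exact absurd this (by decide)
  · exact (h.odd l l' k).2 c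

/-- Meeting lines: a common point first. -/
theorem DL.common (h2 : (2 : K) = 0) (l : DL M a y) (l' : DL M b z) (m : ln a y ⊓ ln b z ≠ ⊥) :
    ∃ p s s', DL M p s ∧ DL M p s' ∧ wd p s = wd a y ∧ wd p s' = wd b z ∧ ln p s = ln a y ∧ ln p s' = ln b z := by
  obtain ⟨p, hp, p0⟩ := Submodule.exists_mem_ne_zero_of_ne_bot m
  obtain ⟨s, l1, e1, f1⟩ := l.1.exists_basis h2 hp.1 p0
  obtain ⟨s', l2, e2, f2⟩ := l'.1.exists_basis h2 hp.2 p0
  exact ⟨p, s, s', ⟨l1, e1 ▸ l.2⟩, ⟨l2, e2 ▸ l'.2⟩, e1, e2, f1, f2⟩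

theorem B_ln {v u : V K} (ha : B a u = 0) (hy : B y u = 0) (hv : v ∈ ln a y) : B v u = 0 := by
  obtain ⟨c, d, rfl⟩ := Submodule.mem_span_pair.1 hv
  unfold B at *
  rw [polar_add_left, polar_smul_left, polar_smul_left, ha, hy, smul_zero, smul_zero, add_zero]

theorem mem_ln_l (a y : V K) : a ∈ ln a y := Submodule.subset_span (by simp)
theorem mem_ln_r (a y : V K) : y ∈ ln a y := Submodule.subset_span (by simp)

theorem Ln.perp (l : Ln a y) {u v : V K} (hu : u ∈ ln a y) (hv : v ∈ ln a y) : B u v = 0 := by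
  have := l.sing (add_mem hu hv)
  rwa [Q_add, l.sing hu, l.sing hv, zero_add, zero_add] at this

theorem wd_smul_congr (h2 : (2 : K) = 0) (l : Ln a y) (l' : Ln b z) (e : wd a y = wd b z) (c : K) :
    wd a (c • y) = wd b (c • z) := O.ext fun v => by
  have k : ∀ {a y : V K}, Ln a y → (wd a (c • y)).1 v = v + c • ((wd a y).1 v - v) := fun {a y} l => by
    rw [wd_apply h2 l.qa (by rw [B, polar_smul_right, show polar (Q K) a y = 0 from l.p, smul_zero]), l.apply h2,
      Q_smul, l.qy, B, polar_smul_left, smul_eq_mul]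
    module
  rw [k l, k l', e]

theorem Ev0.riSet (h : Ev0 M) (l : DL M a y) : IsRootInvolutionSet (DD M) := by
  have := Fact.mk Nat.prime_two
  refine ⟨fun d hd => ?_, ?_, fun d hd g => A2.conj hd g.1, fun d hd e he => ?_⟩
  · obtain ⟨a, y, l, rfl⟩ := DD.ex hd
    exact orderOf_eq_prime (Subtype.ext ((pow_two _).trans (wd_sq h.two a y))) fun e =>
      l.1.ne_one h.two (congrArg Subtype.val e)
  · refine Subgroup.map_injective M.subtype_injective ?_
    rw [MonoidHom.map_closure, ← MonoidHom.range_eq_map, Subgroup.range_subtype]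
    refine Eq.trans (congrArg _ (Set.ext fun g => ⟨?_, ?_⟩)) (h.gen_DL l)
    · rintro ⟨d, hd, rfl⟩
      obtain ⟨a, y, l, rfl⟩ := DD.ex hd
      exact ⟨a, y, l, rfl⟩
    · rintro ⟨b, z, l', rfl⟩; exact ⟨_, l'.mem, rfl⟩
  · obtain ⟨a, y, l, rfl⟩ := DD.ex hd
    obtain ⟨b, z, l', rfl⟩ := DD.ex he
    rw [← Subgroup.orderOf_coe]
    by_cases m : ln a y ⊓ ln b z = ⊥
    · by_cases k : kap a y b z = 0
      · exact .inr (.inr (l.1.order_four h.two l'.1 m k))
      · exact .inr (.inl (h.odd l l' k).1)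
    · exact .inl (Subtype.ext (l.1.commute h.two l'.1 m))

theorem Ev0.nc (h : Ev0 M) {d : M} (c : ∀ g, g * d = d * g) : d = 1 := by
  have := h.simple
  rcases (inferInstance : (Subgroup.center M).Normal).eq_bot_or_eq_top with e | e
  · exact Subgroup.mem_bot.1 (e ▸ Subgroup.mem_center_iff.2 c)
  · exact absurd ⟨⟨fun u v => Subgroup.mem_center_iff.1 (e ▸ Subgroup.mem_top v) u⟩⟩ h.nab

theorem Ev0.pCore (h : Ev0 M) : pCore 2 M = ⊥ := by
  have := h.simple
  have := h.fin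
  have := Fact.mk Nat.prime_two
  refine (inferInstance : (Cfsg.pCore 2 M).Normal).eq_bot_or_eq_top.resolve_right fun e => h.nab ?_
  have p : IsPGroup 2 M := (e ▸ Core.pCore_isPGroup 2 M : IsPGroup 2 (⊤ : Subgroup M)).of_equiv Subgroup.topEquiv
  have := p.isNilpotent
  exact ⟨⟨IsSimpleGroup.comm_iff_isSolvable.2 inferInstance⟩⟩

theorem Ev0.exists_od (h : Ev0 M) (l : DL M a y) {d : M} (hd : d ∈ DD M) : ∃ e ∈ DD M, RI.Od d e := by
  have := h.fin
  have r := RI.rt_of (h.riSet l)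
  by_contra! c
  exact r.ne_one hd (Subgroup.mem_bot.1 (h.pCore ▸ r.mem_pCore (h.riSet l).generates hd c))

/-- S5045: there is no isolated vertex (`O₂(M) = 1`); a component of the odd graph is normalised by its members and
centralised by the others, so it generates `M`; there is one component, and adjacent involutions are conjugate. -/
theorem Ev0.riClass (h : Ev0 M) (l : DL M a y) : IsRootInvolutionClass (DD M) := by
  have := h.fin
  have := h.simple
  have D := h.riSet l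
  have r := RI.rt_of D
  obtain ⟨-, -, -, -, c, -⟩ := Cfsg.Agent.S5045.result D
  have nW : (Subgroup.closure {w | IsIsolatedElem (OddAdj (DD M)) (DD M) w}) = ⊥ := by
    rw [Subgroup.closure_eq_bot_iff]
    intro w hw
    obtain ⟨e, he, o⟩ := h.exists_od l hw.1
    exact absurd (r.oddAdj.2 ⟨hw.1, he, o⟩) (hw.2 e).1
  have ex : ∀ d ∈ DD M, ∃ d' ∈ elemComponentOf (OddAdj (DD M)) (DD M) d, d' ≠ d := fun d hd =>
    let ⟨e, he, o⟩ := h.exists_od l hd
    ⟨e, ⟨he, r.oc_od hd he o⟩, o.ne.symm⟩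
  refine ⟨D, ⟨_, l.mem⟩, fun d hd e he => ?_⟩
  by_contra! n
  have top : Subgroup.normalClosure {d} = ⊤ :=
    (inferInstance : (Subgroup.normalClosure {d}).Normal).eq_bot_or_eq_top.resolve_left fun e =>
      r.ne_one hd (Subgroup.mem_bot.1 (e ▸ Subgroup.subset_normalClosure rfl))
  refine r.ne_one he (h.nc fun g => (RI.comm_closure (S := Group.conjugatesOfSet {d}) ?_
    (show g ∈ Subgroup.normalClosure {d} from top ▸ trivial)).symm)
  intro s hs
  obtain ⟨_, rfl, hs'⟩ := Group.mem_conjugatesOfSet_iff.1 hs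
  obtain ⟨k, rfl⟩ := isConj_iff.1 hs'
  have hs := D.conj_mem _ hd k
  have := c _ hs e he (ex _ hs) (ex _ he) fun q => by
    obtain ⟨g, -, f⟩ := r.oc_conj' (q.ge ⟨he, .refl⟩).2
    exact n (g * k) (by rw [← f, RI.cj_def]; group)
  rw [nW, Subgroup.mem_bot, mul_inv_eq_one, mul_inv_eq_iff_eq_mul] at this
  exact this.symm

theorem Ev0.trans (h : Ev0 M) (l : DL M a y) (l' : DL M b z) : ∃ g ∈ M, g * wd a y * g⁻¹ = wd b z ∧
    (ln a y).map (g.1 : V K →ₗ[K] V K) = ln b z := by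
  obtain ⟨g, e⟩ := (h.riClass l).2.2 _ l.mem _ l'.mem
  have e : g.1 * wd a y * g.1⁻¹ = wd b z := (congrArg Subtype.val e).symm
  refine ⟨g.1, g.2, e, ?_⟩
  rw [← l'.1.comm h.two, ← e, wd, conj_eich, (l.1.conj g.1).comm h.two, Submodule.map_span, Set.image_pair]
  rfl

theorem Ev0.exists_opp (h : Ev0 M) (l : DL M a y) : ∃ b z, DL M b z ∧ kap a y b z ≠ 0 := by
  obtain ⟨e, he, o⟩ := h.exists_od l l.mem
  have r := RI.rt_of (h.riSet l)
  obtain ⟨b, z, l', rfl⟩ := DD.ex he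
  refine ⟨b, z, l', fun k => ?_⟩
  by_cases m : ln a y ⊓ ln b z = ⊥
  · exact (RI.vp_of_ord (r.sqr l.mem) (r.sqr he) ((Subgroup.orderOf_coe _).symm.trans
      (l.1.order_four h.two l'.1 m k).1)).not_od (r.sqr l.mem) (r.sqr he) o
  · exact o.ne (RI.eq_of_comm_of_odd (r.sqr l.mem) (r.sqr he) (Subtype.ext (l.1.commute h.two l'.1 m)) o.2)

/-- The root groups are all the same additive group. -/
theorem Ev0.root (h : Ev0 M) (l : DL M a y) (l' : DL M b z) (c : K) : wd a (c • y) ∈ M ↔ wd b (c • z) ∈ M := by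
  obtain ⟨g, hg, e, -⟩ := h.trans l l'
  rw [wd, conj_eich] at e
  rw [← wd_smul_congr h.two (l.1.conj g) l'.1 e, ← map_smul, wd, wd, ← conj_eich, M.mul_mem_cancel_right (inv_mem hg),
    M.mul_mem_cancel_left hg]

theorem Ev0.nondeg (h : Ev0 M) (n : ¬ Dgn M) (l : DL M a y) : IsNondegenerateRootInvolutionSet (DD M) := by
  have D := h.riSet l
  have r := RI.rt_of D
  obtain ⟨e, he, o⟩ := h.exists_od l l.mem
  unfold Dgn at n
  push Not at n
  obtain ⟨a, y, b, z, l, l', m, k⟩ := n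
  have f : orderOf ((⟨_, l.2⟩ : M) * ⟨_, l'.2⟩) = 4 :=
    (Subgroup.orderOf_coe _).symm.trans (l.1.order_four h.two l'.1 m k).1
  have v := RI.vp_of_ord (r.sqr l.mem) (r.sqr l'.mem) f
  refine ⟨D, ⟨_, l.mem, _, r.vp_mem l.mem l'.mem v, fun e => ?_, v.comm_left⟩, ⟨_, DL.mem ‹_›, e, he, o.ne, o.2⟩,
    _, l.mem, _, l'.mem, f⟩
  exact r.ne_one l.mem (RI.cj_eq_one.1 (left_eq_mul.1 e))

/-- S5054: the partners of `a ∧ y` and one opposite involution generate. -/
theorem Ev0.gen_nd (h : Ev0 M) (n : ¬ Dgn M) (l : DL M a y) (l' : DL M b z) (k : kap a y b z ≠ 0) :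
    M ≤ Subgroup.closure ({g | ∃ p s, DL M p s ∧ p ∈ ln a y ∧ B a s = 0 ∧ B y s = 0 ∧ g = wd p s} ∪ {wd b z}) := by
  have := h.fin
  have o := h.odd l l' k
  have top := (Cfsg.Agent.S5054.result (h.nondeg n l) (h.riClass l)).1 _ l.mem ⟨_, l'.2⟩
    ⟨l'.mem, fun e => o.2 (by rw [show wd b z = wd a y from congrArg Subtype.val e]),
      by rw [← Subgroup.orderOf_coe]; exact o.1⟩
  have := congrArg (Subgroup.map M.subtype) top
  rw [MonoidHom.map_closure, ← MonoidHom.range_eq_map, Subgroup.range_subtype] at this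
  refine this.ge.trans (Subgroup.closure_mono ?_)
  rintro _ ⟨e, ⟨⟨he, c, -⟩, q⟩ | rfl, rfl⟩
  · obtain ⟨b, z, l', rfl⟩ := DD.ex he
    obtain ⟨p, s, t, l1, l2, e1, e2, -, f⟩ := l'.common h.two l (h.meet l' l (congrArg Subtype.val c))
    have q : A2 (wd b z * wd a y) := q
    rw [← e1, ← e2, wd, wd, ← eich_add l1.1.qa l1.1.p l2.1.p] at q
    have q := (q.sing h.two l1.1.qa l1.1.ne (by
      rw [B, polar_add_right]; exact (congrArg₂ _ l1.1.p l2.1.p).trans (add_zero 0))).qy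
    rw [Q_add, l1.1.qy, l2.1.qy, zero_add, zero_add] at q
    have k : ∀ v ∈ ln a y, B v s = 0 := fun v hv => B_ln l1.1.p ((B_comm _ _).trans q) (f ▸ hv)
    exact .inl ⟨p, s, l1, f ▸ mem_ln_l p t, k _ (mem_ln_l a y), k _ (mem_ln_r a y), e1.symm⟩
  · exact .inr rfl

/-- `⁅c e, c' e'⁆ = c c' β d` (`Ln.four`, `Ln.comm_eq`) and `β d ∈ D`: the root group is closed under products. -/
theorem Ev0.field_nd (h : Ev0 M) (n : ¬ Dgn M) :
    ∃ k : Subfield K, Finite k ∧ ∀ a y, DL M a y → ∀ c, wd a (c • y) ∈ M ↔ c ∈ k := by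
  have := h.fin
  unfold Dgn at n
  push Not at n
  obtain ⟨a, y, b, z, l, l', m, k⟩ := n
  obtain ⟨a, y, b, z, l1, l2, e1, e2, -, -, h1, h3, h4, h5, l3⟩ := l.1.four h.two l'.1 m k
  have l : DL M a y := ⟨l1, e1 ▸ l.2⟩
  have l' : DL M b z := ⟨l2, e2 ▸ l'.2⟩
  have sm : ∀ {u v : V K} (c : K), B u v = 0 → B u (c • v) = 0 := fun c e => by
    unfold B at *; rw [polar_smul_right, e, smul_zero]
  have cm : ∀ {g k : O (Q K)}, g ∈ M → k ∈ M → ⁅g, k⁆ ∈ M := fun hg hk =>
    M.mul_mem (M.mul_mem (M.mul_mem hg hk) (inv_mem hg)) (inv_mem hk)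
  have l'' : DL M a (B y z • b) := ⟨l3.smul h5, l1.comm_eq h.two l2 h1 h3 h4 ▸ cm l.2 l'.2⟩
  let R : Subring K :=
    { carrier := {c | wd a (c • y) ∈ M}
      one_mem' := by simpa using l.2
      zero_mem' := by simp
      add_mem' := fun {c d} hc hd => by
        show wd a ((c + d) • y) ∈ M
        rw [add_smul, wd, eich_add l1.qa (sm c l1.p) (sm d l1.p)]; exact M.mul_mem hc hd
      neg_mem' := fun {c} hc => by
        show wd a ((-c) • y) ∈ M
        rw [neg_smul, wd, eich_neg l1.qa (sm c l1.p)]; exact M.inv_mem hc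
      mul_mem' := fun {c d} hc hd => by
        show wd a ((c * d) • y) ∈ M
        by_cases c0 : c = 0
        · simp [c0]
        by_cases d0 : d = 0
        · simp [d0]
        have := cm hc ((h.root l l' d).1 hd)
        rw [(l1.smul c0).comm_eq h.two (l2.smul d0) h1 (sm d h3) ((B_comm _ _).trans (sm c ((B_comm _ _).trans h4)))]
          at this
        refine (h.root l l'' _).2 ?_
        convert this using 2
        unfold B
        rw [polar_smul_left, polar_smul_right, smul_smul, smul_smul, smul_eq_mul] }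
  have fR : Finite R := Finite.of_injective (fun c : R => (⟨_, c.2⟩ : M)) fun c d e => by
    obtain ⟨t, ht⟩ := Submodule.mem_span_singleton.1
      (wd_inj l1.qa l1.ne h.two (sm _ l1.p) (sm _ l1.p) (congrArg Subtype.val e))
    exact Subtype.ext (sub_eq_zero.1 (l1.li (-t) (c.1 - d.1) (by rw [sub_smul, ← ht, neg_smul, neg_add_cancel])).2)
  refine ⟨{ R with inv_mem' := fun c hc => ?_ }, fR, fun a' y' l0 c => h.root l0 l c⟩
  by_cases c0 : c = 0
  · rw [c0, inv_zero]; exact R.zero_mem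
  obtain ⟨d, e⟩ := Finite.surjective_of_injective (f := fun d : R => (⟨c, hc⟩ : R) * d)
    (mul_right_injective₀ fun e => c0 (congrArg Subtype.val e)) 1
  rw [inv_eq_of_mul_eq_one_right (show c * d.1 = 1 from congrArg Subtype.val e)]
  exact d.2

/-- No two distinct members of `D` commute: Glauberman's `Z*`-theorem (`FC.zstar`, `SzQ.zstar`).  Otherwise, if commuting
is transitive and products of commuting members are in `D`, S5044 applies (a connected commuting graph makes `M` abelian). -/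
theorem Ev0.list_dn [IsAlgClosed K] (h : Ev0 M) (l : DL M a y) (d : Dgn M) (n : ∀ a, ¬ Pol M a) :
    (∃ (F : Type) (_ : Field F) (_ : Fintype F), CharP F 2 ∧ Nonempty (M ≃* PSL(2, F))) ∨ Lie.IsoSuzuki M ∨
      ∃ (F : Type) (_ : Field F) (_ : Fintype F) (q : ℕ), Fintype.card F = q ^ 2 ∧ Even q ∧ 4 ≤ q ∧
        Nonempty (M ≃* PSU 3 F q) := by
  have := h.fin
  have := h.simple
  have D := h.riSet l
  have r := RI.rt_of D
  have pp : ∀ {p s s' : V K}, DL M p s → DL M p s' → B s s' = 0 := fun {p s s'} l1 l2 => by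
    by_contra e; exact n p ⟨s, s', l1, l2, e⟩
  have perp : ∀ {a y b z : V K}, DL M a y → DL M b z → Commute (wd a y) (wd b z) →
      ∀ u ∈ ln a y, ∀ v ∈ ln b z, B u v = 0 := fun l l' c u hu v hv => by
    obtain ⟨p, s, s', l1, l2, -, -, f1, f2⟩ := l.common h.two l' (h.meet l l' c)
    rw [← f1] at hu
    rw [← f2] at hv
    exact B_ln (l2.1.perp (mem_ln_l _ _) hv) ((B_comm _ _).trans
      (B_ln l1.1.p ((B_comm _ _).trans (pp l1 l2)) hv)) hu
  have tr : ∀ d ∈ DD M, ∀ e ∈ DD M, ∀ f ∈ DD M, Commute d e → Commute e f → Commute d f := by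
    intro _ h1 _ h2 _ h3 c c'
    obtain ⟨a, y, l1, rfl⟩ := DD.ex h1
    obtain ⟨b, z, l2, rfl⟩ := DD.ex h2
    obtain ⟨p, s, l3, rfl⟩ := DD.ex h3
    refine Subtype.ext (l1.1.commute h.two l3.1 ((d _ _ _ _ l1 l3).resolve_right fun k => ?_))
    obtain ⟨v, hv, v0⟩ := Submodule.exists_mem_ne_zero_of_ne_bot (h.meet l1 l2 (congrArg Subtype.val c))
    have q := perp l2 l3 (congrArg Subtype.val c') v hv.2
    exact v0 ((kap_ne_iff l1.1).1 k v hv.1 (q _ (mem_ln_l _ _)) (q _ (mem_ln_r _ _)))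
  obtain ⟨e₀, he₀, o⟩ := h.exists_od l l.mem
  have ne : (DD M ∩ commutingProducts (DD M)).Nonempty := by
    by_contra c
    have z := ZStar.zstar (z := (⟨_, l.2⟩ : M)) ⟨D.orderOf_eq _ l.mem, fun g cm => by
      by_contra ne
      have he := D.conj_mem _ l.mem g
      generalize g * _ * g⁻¹ = e at cm ne he
      obtain ⟨b, z, l', rfl⟩ := DD.ex he
      have n1 : (⟨_, l.2⟩ : M) * ⟨_, l'.2⟩ ≠ 1 := fun e => ne (RI.eq_of_mul_eq_one' (r.sqr he) e).symm
      refine c ⟨_, ?_, _, l.mem, _, he, cm, n1, rfl⟩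
      obtain ⟨p, s, s', l1, l2, e1, e2, -⟩ := l.common h.two l' (h.meet l l' (congrArg Subtype.val cm))
      have e : wd a y * wd b z = wd p (s + s') := by rw [← e1, ← e2, wd, wd, wd, eich_add l1.1.qa l1.1.p l2.1.p]
      refine ⟨p, s + s', ⟨l1.1.qa, ?_, ?_, fun α β f => ?_⟩, e⟩
      · rw [Q_add, l1.1.qy, l2.1.qy, zero_add, zero_add]; exact pp l1 l2
      · rw [B, polar_add_right]; exact (congrArg₂ _ l1.1.p l2.1.p).trans (add_zero 0)
      · by_cases b0 : β = 0
        · rw [b0, zero_smul, add_zero] at f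
          exact ⟨(smul_eq_zero.1 f).resolve_right l1.1.ne, b0⟩
        refine absurd (Subtype.ext (e.trans (eich_of_mem_span l1.1.qa (Submodule.mem_span_singleton.2
          ⟨-(β⁻¹ * α), ?_⟩)))) n1
        rw [neg_smul, mul_smul, eq_neg_of_add_eq_zero_left f, smul_neg, neg_neg, inv_smul_smul₀ b0]⟩
    rcases (inferInstance : (oddCore M).Normal).eq_bot_or_eq_top with e | e
    · refine r.ne_one l.mem (h.nc fun g => ?_)
      have := z g
      rw [e, Subgroup.mem_bot, mul_inv_eq_one, mul_inv_eq_iff_eq_mul] at this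
      exact this.symm
    · have := Core.pPrimeCore_coprime 2 M
      rw [show pPrimeCore 2 M = ⊤ from e, Subgroup.card_top] at this
      exact absurd (this.coprime_dvd_left (D.orderOf_eq _ l.mem ▸ orderOf_dvd_natCard _)) (by decide)
  have zs : twoZCore M = ⊥ := (inferInstance : (twoZCore M).Normal).eq_bot_or_eq_top.resolve_right fun e =>
    o.not_mem_zs (r.sqr l.mem) (r.sqr he₀) (e ▸ trivial)
  have q : M ≃* M ⧸ twoZCore M := (QuotientGroup.quotientBot.symm).trans (QuotientGroup.quotientMulEquivOfEq zs.symm)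
  rcases Cfsg.Agent.S5044.result D ne with c | ⟨F, i, j, c, -, ⟨e⟩⟩ | ⟨F, i, j, m, m1, c, ⟨e⟩⟩ |
    ⟨F, i, j, q', c, c', q4, ⟨e⟩⟩
  · refine absurd (RI.eq_of_comm_of_odd (r.sqr l.mem) (r.sqr he₀) ?_ o.2) o.ne
    have := c _ l.mem _ he₀
    clear o he₀
    induction this with
    | refl => exact Commute.refl _
    | tail _ e ih => exact tr _ l.mem _ e.1 _ e.2.1 ih e.2.2.2
  · exact .inl ⟨F, i, j, c, ⟨q.trans e⟩⟩
  · exact .inr (.inl ⟨F, i, j, m, m1, c, ⟨q.trans e⟩⟩)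
  · refine .inr (.inr ⟨F, i, j, q', c', ?_, q4, ⟨q.trans e⟩⟩)
    obtain ⟨n, -, f⟩ := FiniteField.card F 2
    exact (Nat.even_pow.1 (c' ▸ f ▸ Nat.even_pow.2 ⟨even_two, n.ne_zero⟩ : Even (q' ^ 2))).1

end Cfsg.Lib.S6Q
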