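import Cfsg.Agent.Lib.S6Q.Evn
import Cfsg.Agent.Lib.O7.Sp

/-!
# Sporadic groups (`K` of odd characteristic); model `O7/Sp`
-/

set_option autoImplicit false

namespace Cfsg.Lib.S6Q

open scoped MatrixGroups Matrix commutatorElement
open Cfsg.Geo Cfsg.Lib.Asch Cfsg.Lib.Linear Cfsg.Lib.Q4 Cfsg.Lib.Symp Module
open Cfsg.Lib.Q4R (Sq HasTv sc dg)

variable {K : Type*} [Field K] [IsAlgClosed K] {X : Type*} [Group X] {Y : Subgroup (G6 K)} {π : Y →* X}
  {E : Type*} [Field E] [Fintype E]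

/-- `Cw.eleven` and `Cw.nine` (any characteristic). -/
theorem Cw.no_M11 (h : Cw Y π) (e : Spor.IsoM11 X) : False := by
  obtain ⟨e⟩ := e
  have h' := h.comp e
  obtain ⟨γ, C⟩ := Mathieu.cx11 (D := [650637096153066191528378510017177152, 487006566180667501609709218912579616,
    984534996141977609297800625156032544, 487607080158395075740321133224921120, 424698032726113400716592269113985056,
    858988336336270505570052787752405024]) (by decide +kernel) []
  have k := C.weqs (l := [(List.replicate 11 0, []), ([1, 0], [0, 0, 0, 1]), ([2, 2, 2], []), ([2, 3], [3, 2]),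
    ([4, 2], [3, 4]), ([2, 4, 3], [4]), ([5, 2], [2, 3, 5]), ([3, 5, 3], [2, 5])]) (by decide +kernel)
  have n1 := C.wne (is := [0]) (js := []) (by decide +kernel)
  have n2 := C.wne (is := [2]) (js := []) (by decide +kernel)
  simp only [List.forall_mem_cons, List.replicate, Grp.wd_cons, Grp.wd_nil, mul_one, ← mul_assoc] at k n1 n2
  obtain ⟨k1, k2, k3, k4, k5, k6, k7, k8, -⟩ := k
  have c : Commute (γ 2) (γ 3) := k4
  have p1 := h'.eleven (c := γ 0) (x := γ 1) (by simpa only [pow_succ, pow_zero, one_mul] using k1) n1 (.inl rfl)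
    (mul_inv_eq_iff_eq_mul.2 (by simpa only [pow_succ, pow_zero, one_mul] using k2))
  have p2 := h'.nine (a := γ 2) (b := γ 3) (x := γ 4) (y := γ 5) (by simpa only [pow_succ, pow_zero, one_mul] using k3) n2 c
    (mul_inv_eq_iff_eq_mul.2 k5) (by rw [mul_inv_eq_iff_eq_mul, eq_inv_mul_iff_mul_eq, ← mul_assoc, k6])
    (mul_inv_eq_iff_eq_mul.2 k7)
    (by rw [mul_inv_eq_iff_eq_mul, c.inv_right.eq, mul_assoc, eq_inv_mul_iff_mul_eq, ← mul_assoc, k8])
  exact one_ne_zero (α := K) (by linear_combination 4 * p2 - p1)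

theorem Cv.no_M12 (h : Cv Y π) (e : Spor.IsoM12 X) : False := by
  obtain ⟨Y', -, π', h', -⟩ := (h.comp e.some).sub
    (Subgroup.inclusion_injective (show Spor.M11 ≤ Spor.M12 from inf_le_left))
  exact h'.cw.no_M11 ⟨.refl _⟩

theorem Cv.no_M22 (h : Cv Y π) (e : Spor.IsoM22 X) : False := by
  have : Fact (Nat.Prime 2) := Nat.fact_prime_two
  have := Fintype.ofFinite (GaloisField 2 2)
  have c : Fintype.card (GaloisField 2 2) = 4 := by
    rw [← Nat.card_eq_fintype_card, GaloisField.card 2 2 two_ne_zero]; rfl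
  obtain ⟨φ⟩ := Agent.S0380.result none (some 0) (some 1) (by decide) (by decide) (by decide) _ c
  let j : ↥(MulAction.stabilizer M24 (none : GolayPt) ⊓ MulAction.stabilizer M24 (some 0 : GolayPt) ⊓
      MulAction.stabilizer M24 (some 1 : GolayPt)) →* Spor.M22 :=
    (M24.subtype.comp (Subgroup.subtype _)).codRestrict _ fun x => ⟨⟨x.1.2, x.2.1.1⟩, x.2.1.2⟩
  have hj : Function.Injective j := fun x y e => Subtype.ext (Subtype.ext (congrArg (fun z : Spor.M22 => z.1) e))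
  obtain ⟨Y', -, π', h', -⟩ := (h.comp e.some).sub (f := j.comp φ.symm.toMonoidHom) (hj.comp φ.symm.injective)
  exact h'.no_L34 c

theorem Cv.no_M23 (h : Cv Y π) (e : Spor.IsoM23 X) : False := by
  obtain ⟨Y', -, π', h', -⟩ := (h.comp e.some).sub
    (Subgroup.inclusion_injective (show Spor.M22 ≤ Spor.M23 from inf_le_left))
  exact h'.no_M22 ⟨.refl _⟩

theorem Cv.no_McL (h : Cv Y π) (e : Spor.IsoMcL X) : False := by
  obtain ⟨-, t, -, c⟩ := Agent.S2132.result
  exact (h.comp e.some).no_cover (f := Subgroup.subtype _) Subtype.val_injective le_rfl c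

theorem Cv.no_Ly (h : Cv Y π) (e : Spor.IsoLy X) : False := by
  obtain ⟨C, _, f, hf, c⟩ := O7.sp_ly
  exact (h.comp e.some).no_cover hf (by norm_num) c

theorem spor_four : ∃ V : Subgroup (alternatingGroup (Fin 5)), Nat.card V = 4 ∧ ∀ x ∈ V, x * x = 1 := by
  let a : alternatingGroup (Fin 5) := ⟨.swap 0 1 * .swap 2 3, Equiv.Perm.mem_alternatingGroup.2 (by decide)⟩
  let b : alternatingGroup (Fin 5) := ⟨.swap 0 2 * .swap 1 3, Equiv.Perm.mem_alternatingGroup.2 (by decide)⟩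
  let s : Finset (alternatingGroup (Fin 5)) := {1, a, b, a * b}
  have k : (∀ x ∈ s, x * x = 1 ∧ x⁻¹ ∈ s ∧ ∀ y ∈ s, x * y ∈ s) ∧ 1 ∈ s ∧ s.card = 4 := by decide +kernel
  exact ⟨⟨⟨⟨s, fun {x y} hx hy => (k.1 x hx).2.2 y hy⟩, k.2.1⟩, fun {x} hx => (k.1 x hx).2.1⟩,
    (Nat.card_eq_finsetCard s).trans k.2.2, fun x hx => (k.1 x hx).1⟩

/-- S2135: `⟨t⟩ × (four-group of the complement A₅)` is a pure eight-group. -/
theorem Cv.no_J3 (h : Cv Y π) (e : Spor.IsoJ3 X) : False := by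
  obtain ⟨F, _, _, ω, hF, hω, ⟨e⟩⟩ := e
  obtain ⟨cj, t, o, P, _, -, -, -, ⟨H, hH⟩, ⟨q⟩⟩ := Agent.S2135.result hF ω hω
  let i := hH.symm.QuotientMulEquiv.symm.trans q
  let f := ((Subgroup.subtype _).comp H.subtype).comp i.symm.toMonoidHom
  have hf : Function.Injective f := (Subtype.val_injective.comp Subtype.val_injective).comp i.symm.injective
  have ct : ∀ x, Commute t (f x) := fun x => (Subgroup.mem_centralizer_singleton_iff.1 (i.symm x).1.2).symm
  obtain ⟨V, c4, v2⟩ := spor_four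
  haveI : Fact (Nat.Prime 2) := Nat.fact_prime_two
  let g := (Subgroup.zpowers t).subtype.noncommCoprod (f.comp V.subtype) (by
    rintro ⟨_, n, rfl⟩ x
    exact (ct x).zpow_left n)
  have hg : Function.Injective g := (MonoidHom.noncommCoprod_injective _ _ _).2
    ⟨Subtype.val_injective, hf.comp Subtype.val_injective, Subgroup.disjoint_def.2 (by
      rintro _ ⟨⟨_, n, rfl⟩, rfl⟩ ⟨x, hx⟩
      have : x.1 = 1 := (alternatingGroup.center_eq_bot (by simp)).le (Subgroup.mem_center_iff.2 fun y => hf (by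
        rw [map_mul, map_mul, show f x.1 = t ^ n from hx, ((ct y).zpow_left n).eq]))
      rw [← hx, MonoidHom.comp_apply, Subgroup.coe_subtype, this, map_one])⟩
  have s : ∀ a ∈ g.range, a * a = 1 := by
    rintro _ ⟨⟨u, v⟩, rfl⟩
    have : u * u = 1 := by rw [← pow_two, ← o, ← Nat.card_zpowers, pow_card_eq_one']
    rw [← map_mul, Prod.mk_mul_mk, this, show v * v = 1 from Subtype.ext (v2 _ v.2), Prod.mk_one_one, map_one]
  refine (h.comp e).no_pure8 (E := g.range) ?_ s fun a ha b hb a1 b1 =>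
    cj a b (orderOf_eq_prime (by rw [pow_two, s a ha]) a1) (orderOf_eq_prime (by rw [pow_two, s b hb]) b1)
  rw [← Nat.card_congr (MonoidHom.ofInjective hg).toEquiv, Nat.card_prod, Nat.card_zpowers, o, c4]

theorem spor_j1 (u v : List ℕ) (e : O7.spV J1.xM J1.yM u = O7.spV J1.xM J1.yM v) :
    O7.spW J1.gx J1.gy u = O7.spW J1.gx J1.gy v :=
  (O7.sp_rep J1.lrep_x J1.lrep_y u).eq_of_ker J1.coded J1.ker_eq (e ▸ O7.sp_rep J1.lrep_x J1.lrep_y v)

theorem spor_j1' (u : List ℕ) (e : F2.mne 20 20 (F2.idM 20) (O7.spV J1.xM J1.yM u) (F2.idM 20) = true) :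
    O7.spW J1.gx J1.gy u ≠ 1 :=
  (O7.sp_rep J1.lrep_x J1.lrep_y u).ne' (J1.sur 20 (F2.idM 20)) (F2.LRep.one J1.cv_lt) e

/-- `11 : 5 ≤ J₁`. -/
theorem Cw.eleven_of_J1 (h : Cw Y π) (e : Spor.IsoJ1 X) : (11 : K) = 0 := by
  have k1 := spor_j1 (List.replicate 11 [0, 1, 1]).flatten [] (by decide +kernel)
  have k2 := spor_j1 ([0, 0, 0, 1, 1, 1, 0, 1, 0, 1, 0] ++ [0, 1, 1])
    ([0, 1, 1] ++ [0, 1, 1] ++ [0, 1, 1] ++ [0, 1, 1] ++ [0, 0, 0, 1, 1, 1, 0, 1, 0, 1, 0]) (by decide +kernel)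
  simp only [List.replicate, List.flatten_cons, List.flatten_nil, O7.sp_app] at k1 k2
  refine (h.comp e.some).eleven (c := O7.spW J1.gx J1.gy [0, 1, 1]) ?_ (spor_j1' _ (by decide +kernel)) (.inr (.inl rfl))
    (mul_inv_eq_iff_eq_mul.2 (k2.trans (by simp only [pow_succ, pow_zero, one_mul])))
  refine Eq.trans ?_ k1
  simp only [pow_succ', pow_zero]
  rfl

/-- `2³ : 7 ≤ J₁` (`Cv.no_87`), or `C(t) = 2 × A₅` and one class of involutions. -/
theorem Cv.no_J1 (h : Cv Y π) (e : Spor.IsoJ1 X) : False := by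
  let a := [0, 1, 0, 1, 1, 1, 1]
  let b := [0, 0, 1, 0, 1, 1, 1, 1, 0, 0, 0, 0, 0, 0]
  have k1 := spor_j1 ([0] ++ [0] ++ [0] ++ [0] ++ [0] ++ [0] ++ [0]) [] (by decide +kernel)
  have k2 := spor_j1 (a ++ a) [] (by decide +kernel)
  have k3 := spor_j1 ([0] ++ a) (b ++ [0]) (by decide +kernel)
  have k4 := spor_j1 (a ++ b) (b ++ a) (by decide +kernel)
  have k5 := spor_j1 (a ++ b ++ ([0] ++ [0] ++ [0])) ([0] ++ [0] ++ [0] ++ a) (by decide +kernel)
  simp only [O7.sp_app] at k1 k2 k3 k4 k5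
  have k6 := mul_inv_eq_iff_eq_mul.2 k3
  refine (h.comp e.some).no_87 (a := O7.spW J1.gx J1.gy a) (x := O7.spW J1.gx J1.gy [0]) ?_ k2
    (spor_j1' _ (by decide +kernel)) (by rw [k6]; exact k4) ?_
  · simp only [pow_succ, pow_zero, one_mul]
    exact k1
  · rw [k6, eq_mul_inv_iff_mul_eq]
    simpa only [pow_succ, pow_zero, one_mul] using k5

end Cfsg.Lib.S6Q
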