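import Cfsg.Agent.Lib.S6Q.NDb

/-!
# The nondegenerate case, end (notation of `NDa`)
-/

set_option autoImplicit false
set_option linter.unusedSimpArgs false
set_option linter.unusedSectionVars false

namespace Cfsg.Lib.S6Q

open scoped MatrixGroups Matrix commutatorElement
open QuadraticMap Module Cfsg.Lib.Orth Cfsg.Lib.Asch
open Cfsg.Lib.O7 (V W Q N I7 Spin phi act gam sU dm fx stabS stabV dgV)

variable {K : Type*} [Field K] [IsAlgClosed K] {M : Subgroup (O (Q K))} {a y b z s s' p u : V K} {g t h : O (Q K)}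
  {E : Type*} [Field E] [Fintype E]

/-- The algebra: `T ξ₁ ξ₂ A C` says that there is a partner `(ξ₁ p₁ + ξ₂ p₂, s)`, `B s s₁ = A β`, `B s s₂ = C β`. -/
theorem nd3_alg (h2 : (2 : K) = 0) (k : Subfield K) (T : K → K → K → K → Prop) (t1 : T 1 0 0 1) (t2 : T 0 1 1 0)
    (hk : ∀ x y A C x' y' A' C', T x y A C → T x' y' A' C' → (x * y' + y * x') * (A * C' + C * A') ∈ k)
    (hm : ∀ x y A C x' y' A' C', T x y A C → T x' y' A' C' → (x * y' + y * x' = 0 ↔ A * C' + C * A' = 0))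
    (H : (∀ c ∈ k, c = 0 ∨ c = 1) ∨ ((∃ σ ∈ k, σ ≠ 0 ∧ σ ≠ 1) ∧
      ∀ τ ∈ k, τ ≠ 0 → ∀ x y A C, T x y A C → T (τ * x) y (τ⁻¹ * A) (τ * C))) :
    ∃ c d : K, c ≠ 0 ∧ ∀ x y A C, T x y A C → (x * c) ^ 2 * A = (y * d) ^ 2 * C := by
  have m1 : ∀ {x y A C}, T x y A C → (y = 0 ↔ A = 0) := fun t => by simpa using hm _ _ _ _ _ _ _ _ t t1
  have m2 : ∀ {x y A C}, T x y A C → (x = 0 ↔ C = 0) := fun t => by simpa using hm _ _ _ _ _ _ _ _ t t2
  have k1 : ∀ {x y A C}, T x y A C → y * A ∈ k := fun t => by simpa using hk _ _ _ _ _ _ _ _ t t1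
  have k2 : ∀ {x y A C}, T x y A C → x * C ∈ k := fun t => by simpa using hk _ _ _ _ _ _ _ _ t t2
  have key : ∀ {x y A C x' y' A' C'}, T x y A C → T x' y' A' C' → x ≠ 0 → y ≠ 0 → x' ≠ 0 → y' ≠ 0 →
      x ^ 2 * A * (y' ^ 2 * C') = y ^ 2 * C * (x' ^ 2 * A') := by
    intro x y A C x' y' A' C' t t' x0 y0 x0' y0'
    have A0 := (m1 t).not.1 y0
    have C0 := (m2 t).not.1 x0
    have A0' := (m1 t').not.1 y0'
    have C0' := (m2 t').not.1 x0'
    rcases H with H | ⟨⟨σ, σk, σ0, σ1⟩, H⟩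
    · have e1 := (H _ (k1 t)).resolve_left (mul_ne_zero y0 A0)
      have e2 := (H _ (k2 t)).resolve_left (mul_ne_zero x0 C0)
      have e3 := (H _ (k1 t')).resolve_left (mul_ne_zero y0' A0')
      have e4 := (H _ (k2 t')).resolve_left (mul_ne_zero x0' C0')
      have e5 := hm _ _ _ _ _ _ _ _ t t'
      rcases H _ (hk _ _ _ _ _ _ _ _ t t') with e | e
      · have e6 : x * y' + y * x' = 0 := (mul_eq_zero.1 e).elim id e5.2
        have e7 := e5.1 e6
        clear e5 e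
        grind
      · clear e5
        grind
    · have r : ∀ τ ∈ k, τ ≠ 0 → x * y' * A * C' + τ * (y * x' * C * A') ∈ k := fun τ τk τ0 => by
        have := k.sub_mem (k.sub_mem (hk _ _ _ _ _ _ _ _ (H τ τk τ0 _ _ _ _ t) t')
          (k.mul_mem (k.pow_mem τk 2) (k.mul_mem (k2 t) (k1 t'))))
          (k.mul_mem (k.inv_mem τk) (k.mul_mem (k1 t) (k2 t')))
        convert this using 1
        field_simp
        ring
      have Yk : y * x' * C * A' ∈ k := by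
        have := k.div_mem (k.sub_mem (r σ σk σ0) (r 1 k.one_mem one_ne_zero)) (k.sub_mem σk k.one_mem)
        convert this using 1
        have := sub_ne_zero.2 σ1
        field_simp
        ring
      have τk : y * x' / (x * y') ∈ k := by
        have := k.div_mem Yk (k.mul_mem (k2 t) (k1 t'))
        convert this using 1
        field_simp
      have := (hm _ _ _ _ _ _ _ _ (H _ τk (by positivity) _ _ _ _ t) t').1
        (by field_simp; linear_combination (y * x') * h2)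
      field_simp at this
      grind
  by_cases ex : ∃ x y A C, T x y A C ∧ x ≠ 0 ∧ y ≠ 0
  · obtain ⟨x', y', A', C', t', x0', y0'⟩ := ex
    obtain ⟨c, hc⟩ := IsAlgClosed.exists_pow_nat_eq (y' ^ 2 * C') two_pos
    obtain ⟨d, hd⟩ := IsAlgClosed.exists_pow_nat_eq (x' ^ 2 * A') two_pos
    refine ⟨c, d, ?_, fun x y A C t => ?_⟩
    · rintro rfl
      exact mul_ne_zero (pow_ne_zero 2 y0') ((m2 t').not.1 x0') (by rw [← hc]; ring)
    by_cases x0 : x = 0
    · simp [x0, (m2 t).1 x0]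
    by_cases y0 : y = 0
    · simp [y0, (m1 t).1 y0]
    linear_combination key t t' x0 y0 x0' y0' + x ^ 2 * A * hc - y ^ 2 * C * hd
  · refine ⟨1, 0, one_ne_zero, fun x y A C t => ?_⟩
    by_cases x0 : x = 0
    · simp [x0]
    have y0 : y = 0 := by_contra fun y0 => ex ⟨x, y, A, C, t, x0, y0⟩
    simp [(m1 t).1 y0]

theorem nd3_mem (h2 : (2 : K) = 0) (l : Ln a y) {v : V K} (q : Q K s = 0) (h1 : B a s = 0) (h3 : B y s = 0)
    (h4 : B a s' = 0) (h5 : B y s' = 0) (h6 : B s s' ≠ 0) (qv : Q K v = 0) (e1 : B a v = 0) (e2 : B y v = 0)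
    (e3 : B s v = 0) (e4 : B v s' = 0) : v ∈ ln a y := by
  by_contra hv
  have li : LinearIndependent K ![a, y, s, v] := Fintype.linearIndependent_iff.2 fun c hc => by
    simp only [Fin.sum_univ_four, Matrix.cons_val_zero, Matrix.cons_val_one, Matrix.cons_val] at hc
    have c2 : c 2 = 0 := by
      have := congrArg (fun w => B w s') hc
      simp only [geo_add_l, geo_smul_l, h4, h5, e4, polar_zero_left] at this
      exact (mul_eq_zero.1 (by linear_combination this)).resolve_right h6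
    have c3 : c 3 = 0 := by_contra fun c3 => hv <| Submodule.mem_span_pair.2 ⟨-(c 0 / c 3), -(c 1 / c 3), by
      rw [c2] at hc
      have e : v = (c 3)⁻¹ • (c 3 • v) := by rw [smul_smul, inv_mul_cancel₀ c3, one_smul]
      rw [e, eq_neg_of_add_eq_zero_right hc, div_eq_mul_inv, div_eq_mul_inv]; module⟩
    rw [c2, c3, zero_smul, zero_smul, add_zero, add_zero] at hc
    obtain ⟨c0, c1⟩ := l.li _ _ hc
    intro i; fin_cases i <;> assumption
  have f := finrank_ts h2 (X := Submodule.span K (Set.range ![a, y, s, v])) fun w hw => by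
    obtain ⟨c, rfl⟩ := (Submodule.mem_span_range_iff_exists_fun K).1 hw
    have := l.p
    simp only [B] at *
    simp [Fin.sum_univ_four, Q_add, Q_smul, polar_add_left, l.qa, l.qy, q, qv, this, h1, h3, e1, e2, e3]
  rw [finrank_span_eq_card li] at f
  simp at f

/-- The Gram relation in `ℓ^⊥ / (ℓ + K ∙ sU)`. -/
theorem nd3_gram (h2 : (2 : K) = 0) (l : Ln a y) {s₁ s₂ : V K} (q : Q K s₁ = 0) (h1 : B a s₁ = 0) (h3 : B y s₁ = 0)
    (h4 : B a s₂ = 0) (h5 : B y s₂ = 0) (h6 : B s₁ s₂ ≠ 0) (e1 : B a s = 0) (e2 : B y s = 0) (e3 : B a s' = 0)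
    (e4 : B y s' = 0) : B s₁ s₂ * B s s' = B s s₁ * B s' s₂ + B s s₂ * B s' s₁ := by
  obtain ⟨c, hc⟩ := IsAlgClosed.exists_pow_nat_eq (Q K (B s₁ s₂ • s + B s s₂ • s₁ + B s s₁ • s₂)) two_pos
  have u : ∀ v : V K, B v (sU K) = 0 := fun v => (B_comm _ _).trans (B_sU h2 v)
  have := nd3_mem h2 l (v := B s₁ s₂ • s + B s s₂ • s₁ + B s s₁ • s₂ + c • sU K) q h1 h3 h4 h5 h6
    (by rw [Q_add_sU h2, hc, ← two_mul, h2, zero_mul]) (by simp only [geo_add_r, geo_smul_r, e1, h1, h4, u]; ring)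
    (by simp only [geo_add_r, geo_smul_r, e2, h3, h5, u]; ring)
    (by simp only [geo_add_r, geo_smul_r, u, B_self h2, B_comm s₁ s]; linear_combination B s₁ s₂ * B s s₁ * h2)
    (by simp only [geo_add_l, geo_smul_l, B_sU h2, B_self h2]; linear_combination B s₁ s₂ * B s s₂ * h2)
  have := geo_perp e3 e4 this
  simp only [geo_add_l, geo_smul_l, B_sU h2, B_comm s₁ s', B_comm s₂ s'] at this
  linear_combination this - (B s s₁ * B s' s₂ + B s s₂ * B s' s₁) * h2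

theorem Pt.smul_left (t : Pt M a y p s) {c : K} (c0 : c ≠ 0) : Pt M a y (c • p) (c⁻¹ • s) := by
  refine ⟨⟨(((t.dl.1.smul (inv_ne_zero c0)).symm).smul c0).symm, ?_⟩, Submodule.smul_mem _ _ t.mem,
    by rw [geo_smul_r, t.pa, mul_zero], by rw [geo_smul_r, t.py, mul_zero],
    fun e => t.ni ((Submodule.smul_mem_iff _ (inv_ne_zero c0)).1 e)⟩
  rw [wd, eich_smul_left t.dl.1.qa (t.dl.1.smul (inv_ne_zero c0)).p, smul_smul, mul_inv_cancel₀ c0, one_smul]
  exact t.dl.2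

/-- Two partners with non-perpendicular second vectors give a basis of the line. -/
theorem Ev.nd3_basis (h : Ev M) (n : ¬ Dgn M) (l : DL M a y) {p' : V K} (t : Pt M a y p s) (t' : Pt M a y p' s')
    (e : B s s' ≠ 0) : Ln p p' ∧ ln p p' = ln a y := by
  obtain ⟨α, β, rfl⟩ := Submodule.mem_span_pair.1 t.mem
  obtain ⟨γ, δ, rfl⟩ := Submodule.mem_span_pair.1 t'.mem
  refine l.1.basis' h.two fun d => e ?_
  have p0 := t.dl.1.ne
  have p0' := t'.dl.1.ne
  obtain ⟨c, hc⟩ : ∃ c : K, c • (α • a + β • y) = γ • a + δ • y := by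
    by_cases α0 : α = 0
    · have β0 : β ≠ 0 := by rintro rfl; simp [α0] at p0
      have : γ = 0 := (mul_eq_zero.1 (by simpa [α0] using d)).resolve_left β0
      refine ⟨δ / β, ?_⟩
      rw [α0, this]; match_scalars
      · ring
      · field_simp
    · refine ⟨γ / α, ?_⟩
      have : δ = β * γ / α := by field_simp; linear_combination d - β * γ * h.two
      rw [this]; match_scalars <;> field_simp
  have c0 : c ≠ 0 := by rintro rfl; exact p0' (by rw [← hc, zero_smul])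
  have := h.no_two_types n l (hc ▸ t.smul_left c0) t'
  rw [geo_smul_l] at this
  exact (mul_eq_zero.1 this).resolve_left (inv_ne_zero c0)

theorem Ev.nd3_fin (h : Ev M) (n : ¬ Dgn M) (l : DL M a y) {k : Subfield K}
    (hk : ∀ a y, DL M a y → ∀ c, wd a (c • y) ∈ M ↔ c ∈ k) {p₁ s₁ p₂ s₂ : V K} (t₁ : Pt M a y p₁ s₁)
    (t₂ : Pt M a y p₂ s₂) (e : B s₁ s₂ ≠ 0) (H : (∀ c ∈ k, c = 0 ∨ c = 1) ∨ ((∃ σ ∈ k, σ ≠ 0 ∧ σ ≠ 1) ∧
      ∀ τ ∈ k, τ ≠ 0 → ∃ g ∈ M, g.1 p₁ = τ • p₁ ∧ g.1 p₂ = p₂ ∧ g.1 s₁ = τ • s₁ ∧ g.1 s₂ = τ⁻¹ • s₂)) : False := by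
  have h2 := h.two
  obtain ⟨L, eL⟩ := h.nd3_basis n l t₁ t₂ e
  have pr : ∀ {x y' x' y'' : K} {s s' : V K}, Pt M a y (x • p₁ + y' • p₂) s → Pt M a y (x' • p₁ + y'' • p₂) s' →
      wd p₁ (((x * y'' + y' * x') * B s s') • p₂) ∈ M := fun {x y' x' y'' s s'} t t' => by
    have c := t.dl.1.comm_eq h2 t'.dl.1 (l.1.perp t.mem t'.mem) (geo_perp t'.pa t'.py t.mem)
      ((B_comm _ _).trans (geo_perp t.pa t.py t'.mem))
    rw [smul_add, smul_smul, smul_smul, L.basis h2] at c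
    have := M.mul_mem (M.mul_mem (M.mul_mem t.dl.2 t'.dl.2) (M.inv_mem t.dl.2)) (M.inv_mem t'.dl.2)
    rw [← commutatorElement_def, c] at this
    convert this using 3
    ring
  have t₁' : Pt M a y ((1 : K) • p₁ + (0 : K) • p₂) s₁ := by simpa using t₁
  have t₂' : Pt M a y ((0 : K) • p₁ + (1 : K) • p₂) s₂ := by simpa using t₂
  have D : DL M p₁ (B s₁ s₂ • p₂) := ⟨L.smul e, by simpa using pr t₁' t₂'⟩
  have gr : ∀ {P P' s s' : V K} {A C A' C' : K}, Pt M a y P s → Pt M a y P' s' → B s s₁ = A * B s₁ s₂ →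
      B s s₂ = C * B s₁ s₂ → B s' s₁ = A' * B s₁ s₂ → B s' s₂ = C' * B s₁ s₂ →
      B s s' = (A * C' + C * A') * B s₁ s₂ := fun t t' e1 e2 e3 e4 => by
    have := nd3_gram h2 l.1 t₁.dl.1.qy t₁.pa t₁.py t₂.pa t₂.py e t.pa t.py t'.pa t'.py
    rw [e1, e2, e3, e4] at this
    exact mul_left_cancel₀ e (by linear_combination this)
  refine (nd3_alg h2 k (fun x y' A C => ∃ s, Pt M a y (x • p₁ + y' • p₂) s ∧
      B s s₁ = A * B s₁ s₂ ∧ B s s₂ = C * B s₁ s₂) ⟨s₁, t₁', by rw [B_self h2, zero_mul], by rw [one_mul]⟩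
      ⟨s₂, t₂', by rw [B_comm, one_mul], by rw [B_self h2, zero_mul]⟩ ?_ ?_ ?_).elim fun c ⟨d, c0, hc⟩ => ?_
  rotate_right
  · refine h.no_phi n l eL t₁.dl.1.qy t₂.dl.1.qy ⟨t₁.pa, t₁.py⟩ ⟨t₂.pa, t₂.py⟩ e (c₁₁ := c) (c₁₂ := 0) (c₂₁ := 0)
      (c₂₂ := d) (fun x => c0 x.1) fun ξ₁ ξ₂ s t => ?_
    have := hc ξ₁ ξ₂ (B s s₁ / B s₁ s₂) (B s s₂ / B s₁ s₂) ⟨s, t, by field_simp, by field_simp⟩
    field_simp at this
    linear_combination this
  · rintro x y' A C x' y'' A' C' ⟨s, t, e1, e2⟩ ⟨s', t', e3, e4⟩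
    have := pr t t'
    rw [gr t t' e1 e2 e3 e4, ← mul_assoc, ← smul_smul] at this
    exact (hk _ _ D _).1 this
  · rintro x y' A C x' y'' A' C' ⟨s, t, e1, e2⟩ ⟨s', t', e3, e4⟩
    have g := gr t t' e1 e2 e3 e4
    refine ⟨fun d => by_contra fun d' => ?_, fun d => ?_⟩
    · have := (h.nd3_basis n l t t' (by rw [g]; exact mul_ne_zero d' e)).1
      have w := L.basis h2 x y' x' y''
      rw [d, zero_smul, wd, wd, eich_zero] at w
      exact this.ne_one h2 w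
    · obtain ⟨r, hr⟩ := Submodule.mem_span_singleton.1 (h.no_two_points n l t t' (by rw [g, d, zero_mul]))
      obtain ⟨r1, r2⟩ := L.li (r * x - x') (r * y' - y'') (by rw [← sub_eq_zero.2 hr]; module)
      linear_combination -x * r2 - y' * r1 + r * x * y' * h2
  · refine H.imp_right fun H => ⟨H.1, fun τ τk τ0 x y' A C ⟨s, t, e1, e2⟩ => ?_⟩
    obtain ⟨g, hg, g1, g2, g3, g4⟩ := H.2 τ τk τ0
    have b1 : B p₁ (g.1 s) = 0 := by
      have := O.map_polar g p₁ s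
      rw [g1, polar_smul_left'] at this
      exact (mul_eq_zero.1 (this.trans (geo_perp t.pa t.py t₁.mem))).resolve_left τ0
    have b2 : B p₂ (g.1 s) = 0 := by
      have := O.map_polar g p₂ s
      rw [g2] at this
      exact this.trans (geo_perp t.pa t.py t₂.mem)
    have b3 : B (g.1 s) s₁ = τ⁻¹ * A * B s₁ s₂ := by
      have := (O.map_polar g s s₁).trans e1
      rw [g3, polar_smul_right'] at this
      field_simp
      linear_combination this
    have b4 : B (g.1 s) s₂ = τ * C * B s₁ s₂ := by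
      have := (O.map_polar g s s₂).trans e2
      rw [g4, polar_smul_right'] at this
      field_simp at this
      linear_combination this
    refine ⟨g.1 s, ⟨?_, ?_, geo_perp b1 b2 (eL ▸ geo_left a y), geo_perp b1 b2 (eL ▸ geo_right a y), fun m => ?_⟩, b3, b4⟩
    · have := t.dl.conj hg
      rwa [map_add, map_smul, map_smul, g1, g2, smul_smul, mul_comm] at this
    · exact add_mem (Submodule.smul_mem _ _ t₁.mem) (Submodule.smul_mem _ _ t₂.mem)
    · obtain ⟨α, β, m⟩ := Submodule.mem_span_pair.1 (eL ▸ m : g.1 s ∈ ln p₁ p₂)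
      refine t.ni (eL ▸ Submodule.mem_span_pair.2 ⟨α * τ⁻¹, β, g.1.injective ?_⟩)
      rw [map_add, map_smul, map_smul, g1, g2, smul_smul, mul_assoc, inv_mul_cancel₀ τ0, mul_one, m]

/-- For `|k| > 2` the second vector of a partner can be taken perpendicular to an opposite line. -/
theorem Ev.nd3_Z (h : Ev M) (l : DL M a y) (l' : DL M b z) (κ : kap a y b z ≠ 0) {k : Subfield K}
    (hk : ∀ a y, DL M a y → ∀ c, wd a (c • y) ∈ M ↔ c ∈ k) {σ : K} (σk : σ ∈ k) (σ0 : σ ≠ 0) (σ1 : σ ≠ 1)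
    (t : Pt M a y p s) : ∃ s', Pt M a y p s' ∧ B b s' = 0 ∧ B z s' = 0 ∧ s - s' ∈ ln a y := by
  have h2 := h.two
  have := h.fin
  obtain ⟨k', -, -, m, -, hT⟩ := dk_opp h2 l l' κ σ0 σ1 ((hk _ _ l _).2 σk)
  obtain ⟨g, hg, g1, -, g3⟩ := hT σ ((m _).1 ((hk _ _ l _).2 σk)) σ0
  obtain ⟨q, hq, q1, q2⟩ : ∃ q ∈ ln a y, B b (s - q) = 0 ∧ B z (s - q) = 0 := by
    refine ⟨((B b s * B y z - B z s * B y b) / kap a y b z) • a + ((B a b * B z s - B a z * B b s) / kap a y b z) • y,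
      Submodule.mem_span_pair.2 ⟨_, _, rfl⟩, ?_, ?_⟩ <;>
    · rw [B, polar_sub_right]
      simp only [geo_add_r, geo_smul_r, B_comm b a, B_comm b y, B_comm z a, B_comm z y]
      field_simp
      simp only [kap]
      ring
  have r : ∀ v ∈ ln a y, B v (s - q) = 0 := fun v hv => by
    rw [B, polar_sub_right]; exact sub_eq_zero.2 ((geo_perp t.pa t.py hv).trans (l.1.perp hv hq).symm)
  have ni : s - q ∉ ln a y := fun e => t.ni (by simpa using add_mem e hq)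
  have pq := l.1.perp t.mem hq
  have qa := t.dl.1.qa
  have m1 : σ • s ∈ Ma M qa := ⟨(t.dl.1.smul σ0).p, (hk _ _ t.dl _).2 σk⟩
  have gs : g.1 s = (s - q) + σ • q := by
    rw [← g3 (s - q) (r _ (geo_left a y)) (r _ (geo_right a y)) q1 q2, ← g1 q hq, ← map_add, sub_add_cancel]
  have p1 : B p (g.1 s) = 0 := by rw [gs, geo_add_r, geo_smul_r, r p t.mem, pq]; ring
  have m2 : σ • g.1 s ∈ Ma M qa := ⟨by rw [geo_smul_r, p1, mul_zero], by
    rw [wd, ← eich_smul_left qa p1, ← g1 p t.mem]; exact (t.dl.conj hg).2⟩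
  have m3 : (σ * (σ - 1)) • q ∈ Ma M qa := by
    convert (Ma M qa).sub_mem m2 m1 using 1
    rw [gs]; module
  have σ2 : σ * (σ - 1) ≠ 0 := mul_ne_zero σ0 (sub_ne_zero.2 σ1)
  have m4 : q ∈ Ma M qa := ⟨pq, by
    by_cases e : q ∈ K ∙ p
    · obtain ⟨c, rfl⟩ := Submodule.mem_span_singleton.1 e
      rw [wd, eich_self_smul qa]; exact M.one_mem
    · have L : Ln p q := ⟨qa, l.1.sing hq, pq, fun x w e' => by
        have w0 : w = 0 := by_contra fun w0 => e (Submodule.mem_span_singleton.2 ⟨-(x / w), by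
          have e'' : q = w⁻¹ • (w • q) := by rw [smul_smul, inv_mul_cancel₀ w0, one_smul]
          rw [e'', eq_neg_of_add_eq_zero_right e', div_eq_mul_inv]; module⟩)
        rw [w0, zero_smul, add_zero] at e'
        exact ⟨(smul_eq_zero.1 e').resolve_right t.dl.1.ne, w0⟩⟩
      have := (hk _ _ ⟨L.smul σ2, m3.2⟩ _).2 (k.inv_mem (k.mul_mem σk (k.sub_mem σk k.one_mem)))
      rwa [smul_smul, inv_mul_cancel₀ σ2, one_smul] at this⟩
  refine ⟨s - q, ⟨⟨⟨qa, ?_, r p t.mem, fun x w e' => ?_⟩, ((Ma M qa).sub_mem (x := s) ⟨t.dl.1.p, t.dl.2⟩ m4).2⟩,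
    t.mem, r _ (geo_left a y), r _ (geo_right a y), ni⟩, q1, q2, by simpa using hq⟩
  · have := (B_comm _ _).trans (geo_perp t.pa t.py hq)
    rw [sub_eq_add_neg, geo_neg h2, Q_add, t.dl.1.qy, l.1.sing hq, zero_add, zero_add]; exact this
  · have w0 : w = 0 := by_contra fun w0 => ni ((Submodule.smul_mem_iff _ w0).1 (by
      rw [eq_neg_of_add_eq_zero_right e']; exact neg_mem (Submodule.smul_mem _ _ t.mem)))
    rw [w0, zero_smul, add_zero] at e'
    exact ⟨(smul_eq_zero.1 e').resolve_right t.dl.1.ne, w0⟩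

/-- So the types form a matching with at least three members `(p_i, u_i)`.  Write a type as `c (p₁ + ξ p₂) ⊗ (u₁ + η u₂)²`;
we need `η / ξ` constant (`no_phi`).  With `δ = det(p₁, p₂) B s₁ s₂ ∈ k`, pairing with types `2`, `1` gives `c ∈ k`, `ξ η² ∈ k`.
`k = F₂`: `c = 1`, `ξ η² = 1 / δ ..`, and for two types `(ξ + ξ') (η + η')² δ = 1`, so `η / η'` is a cube root of unity and
`η / ξ = η³` is constant.  `|k| > 2`: the torus of `dk_opp` for `(d, x)` and the root group of a partner show that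
`p ∧ (u² + γ q) ∈ M` has `γ ∈ k` (compare `(σ β, σ γ)` with `(σ β, σ² γ)`), so `p_i ∧ u_i² ∈ M`; the swap `n` (`exists_swap`) gives
`n p₂ ∧ u₂² ∈ M`, opposite to `p₁ ∧ u₁²`; their torus fixes `ℓ` and maps the type `(ξ, η)` to `(σ ξ, σ η)`, `σ ∈ k^*`.  For two types,
`(ξ' + σ ξ) (η' + σ η)² ∈ k` for all `σ` gives `ξ η'² ∈ k`, so `ξ' = σ ξ` for some `σ ∈ k`, and then `η' = σ η`. -/
theorem Ev.dgn (h : Ev M) : Dgn M := by
  by_contra n
  have h2 := h.two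
  have := h.fin
  obtain ⟨a, y, l⟩ : ∃ a y, DL M a y := by
    by_contra e
    exact n fun a y _ _ l _ => (e ⟨a, y, l⟩).elim
  obtain ⟨k, -, hk⟩ := h.toEv0.field_nd n
  obtain ⟨p₁, s₁, p₂, s₂, -, -, t₁, t₂, -, e, -, -⟩ := h.toEv0.three_pt n l
  by_cases H : ∀ c ∈ k, c = 0 ∨ c = 1
  · exact h.nd3_fin n l hk t₁ t₂ e (.inl H)
  push Not at H
  obtain ⟨σ, σk, σ0, σ1⟩ := H
  obtain ⟨b, z, l', κ⟩ := h.toEv0.exists_opp l
  obtain ⟨r₁, u₁, b₁, z₁, m₁⟩ := h.nd3_Z l l' κ hk σk σ0 σ1 t₁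
  obtain ⟨r₂, u₂, b₂, z₂, m₂⟩ := h.nd3_Z l l' κ hk σk σ0 σ1 t₂
  have e' : B r₁ r₂ ≠ 0 := fun e' => e <| by
    have c₁ := geo_perp t₂.pa t₂.py m₁
    have c₂ := (B_comm _ _).trans (geo_perp u₁.pa u₁.py m₂)
    rw [B, polar_sub_left] at c₁
    rw [B, polar_sub_right] at c₂
    linear_combination c₁ + c₂ + e'
  refine h.nd3_fin n l hk u₁ u₂ e' (.inr ⟨⟨σ, σk, σ0, σ1⟩, fun τ τk τ0 => ?_⟩)
  obtain ⟨-, eL⟩ := h.nd3_basis n l u₁ u₂ e'
  obtain ⟨w, hw, -, -, w1, -, w2⟩ := l.1.exists_swap h2 l'.1 κ (h.toEv0.fin_ord (M.mul_mem l.2 l'.2))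
  have wM : w ∈ M := (Subgroup.closure_le M).2 (by rintro x (rfl | rfl); exacts [l.2, l'.2]) hw
  have D : DL M (w.1 p₂) r₂ := by
    have := u₂.dl.conj wM
    rwa [w2 r₂ u₂.pa u₂.py b₂ z₂] at this
  obtain ⟨w3, w4⟩ := w1 p₂ u₂.mem
  have w5 : B p₁ (w.1 p₂) ≠ 0 := fun w5 => D.1.ne <| (kap_ne_iff l'.1).1 (fun x => κ (kap_comm.trans x)) _ w3
    ((B_comm _ _).trans (geo_perp w5 w4 (eL ▸ geo_left a y))) ((B_comm _ _).trans (geo_perp w5 w4 (eL ▸ geo_right a y)))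
  have κ' : kap p₁ r₁ (w.1 p₂) r₂ ≠ 0 := by
    rw [kap, geo_perp u₂.pa u₂.py u₁.mem, zero_mul, sub_zero]; exact mul_ne_zero w5 e'
  obtain ⟨k', -, -, m, -, hT⟩ := dk_opp h2 u₁.dl D κ' σ0 σ1 ((hk _ _ u₁.dl _).2 σk)
  obtain ⟨g, hg, g1, g2, g3⟩ := hT τ ((m _).1 ((hk _ _ u₁.dl _).2 τk)) τ0
  exact ⟨g, hg, g1 _ (geo_left _ _), g3 _ (l.1.perp u₁.mem u₂.mem) ((B_comm _ _).trans (geo_perp u₁.pa u₁.py u₂.mem))
    ((B_comm _ _).trans w4) ((B_comm _ _).trans (geo_perp u₂.pa u₂.py u₂.mem)), g1 _ (geo_right _ _),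
    g2 _ (geo_right _ _)⟩

end Cfsg.Lib.S6Q
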