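import Cfsg.Agent.Lib.S6Q.RI
import Cfsg.Agent.Lib.S6Q.DK
import Cfsg.Agent.Lib.S6Q.Spin2

/-!
# The nondegenerate case

Fix `d = a ∧ y ∈ D`, `ℓ = ln a y`, `k` the field of `Ev0.field_nd`, `x ∈ D` opposite with line `ℓ'`, `Z = (ℓ + ℓ')^⊥` (an `O₃`
containing `sU`; its singular vectors are `u² = s² z₀ + t² z₁ + s t sU`, `u = (s, t) ∈ U = K²`, `B u² v² = det(u, v)²`).
A *partner* is `p ∧ s ∈ M` with `p ∈ ℓ`, `s ⟂ ℓ`, `s ∉ ℓ`; `s ≡ u²` mod `ℓ`; its type is `(⟨p⟩, ⟨u⟩)`, and `p ⊗ u²` is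
determined.  Partners generate a group of class two with `⁅p ∧ s, p' ∧ s'⁆ = det(p, p') B s s' · d` (`Ln.comm_eq`), so
`det(p, p') B s s' ∈ k`.  A product of partners with the same `u` (or `p ∧ s · c d`) is again a partner or in `k d`.
-/

set_option autoImplicit false

namespace Cfsg.Lib.S6Q

open scoped MatrixGroups Matrix commutatorElement
open QuadraticMap Module Cfsg.Lib.Orth Cfsg.Lib.Asch
open Cfsg.Lib.O7 (V W Q N I7 Spin phi act gam sU dm fx stabS stabV dgV)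

variable {K : Type*} [Field K] [IsAlgClosed K] {M : Subgroup (O (Q K))} {a y b z s s' p u : V K} {g t h : O (Q K)}
  {E : Type*} [Field E] [Fintype E]

/-- `Pt M a y p s`: a partner. -/
structure Pt (M : Subgroup (O (Q K))) (a y p s : V K) : Prop where
  dl : DL M p s
  mem : p ∈ ln a y
  pa : B a s = 0
  py : B y s = 0
  ni : s ∉ ln a y

omit [IsAlgClosed K] in
theorem nd_ts {X : Submodule K (V K)} (hX : ∀ v ∈ X, Q K v = 0) (q : Q K s = 0) (e : ∀ v ∈ X, B v s = 0) :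
    ∀ v ∈ X ⊔ K ∙ s, Q K v = 0 := fun v hv => by
  obtain ⟨u, hu, w, hw, rfl⟩ := Submodule.mem_sup.1 hv
  obtain ⟨c, rfl⟩ := Submodule.mem_span_singleton.1 hw
  have := e u hu
  rw [Q_add, Q_smul, polar_smul_right', hX u hu, q, show polar (Q K) u s = 0 from this]
  ring

omit [IsAlgClosed K] in
/-- a totally singular plane is maximal -/
theorem nd_plane (h2 : (2 : K) = 0) (l : Ln a y) (q : Q K s = 0) (pa : B a s = 0) (py : B y s = 0)
    (ni : s ∉ ln a y) (q' : Q K s' = 0) (pa' : B a s' = 0) (py' : B y s' = 0) (e : B s s' = 0) :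
    ∃ c : K, s' - c • s ∈ ln a y := by
  have h1 : s' ∈ ln a y ⊔ K ∙ s := by
    by_contra k
    have h3 := finrank_ts h2 (nd_ts (nd_ts (fun v hv => l.sing hv) q fun v hv => geo_perp pa py hv) q' fun v hv => by
      obtain ⟨u, hu, w, hw, rfl⟩ := Submodule.mem_sup.1 hv
      obtain ⟨c, rfl⟩ := Submodule.mem_span_singleton.1 hw
      rw [geo_add_l, geo_smul_l, geo_perp pa' py' hu, e, mul_zero, add_zero])
    rw [Submodule.finrank_sup_span_singleton k, Submodule.finrank_sup_span_singleton ni, l.finrank] at h3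
    omega
  obtain ⟨u, hu, w, hw, rfl⟩ := Submodule.mem_sup.1 h1
  obtain ⟨c, rfl⟩ := Submodule.mem_span_singleton.1 hw
  exact ⟨c, by rwa [add_sub_cancel_right]⟩

omit [IsAlgClosed K] in
theorem Pt.plane (h2 : (2 : K) = 0) (l : Ln a y) (t : Pt M a y p s) (q' : Q K s' = 0) (pa' : B a s' = 0)
    (py' : B y s' = 0) (e : B s s' = 0) : ∃ c : K, s' - c • s ∈ ln a y :=
  nd_plane h2 l t.dl.1.qy t.pa t.py t.ni q' pa' py' e

omit [IsAlgClosed K] in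
/-- `B` only depends on the classes modulo `ℓ` -/
theorem nd_B {c : K} (e : s' - c • s ∈ ln a y) (pa : B a u = 0) (py : B y u = 0) : B s' u = c * B s u := by
  rw [← geo_smul_l, ← sub_add_cancel s' (c • s), geo_add_l, geo_perp pa py e, zero_add]

omit [IsAlgClosed K] in
theorem nd_fr (a y : V K) : finrank K (ln a y) ≤ 2 := by
  classical
  refine (finrank_span_le_card _).trans ?_
  rw [Set.toFinset_insert, Set.toFinset_singleton]
  exact Finset.card_le_two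

omit [IsAlgClosed K] in
theorem Ln.of_eq (l : Ln a y) (e : ln b z = ln a y) : Ln b z := by
  have hb := e ▸ geo_left b z
  have hz := e ▸ geo_right b z
  refine ⟨l.sing hb, l.sing hz, l.perp hb hz, LinearIndependent.pair_iff.1 ?_⟩
  rw [linearIndependent_iff_card_eq_finrank_span, Fintype.card_fin, Matrix.range_cons_cons_empty]
  exact (e ▸ l.finrank : Module.finrank K (ln b z) = 2).symm

/-- a vector perpendicular to three hyperbolic pairs lies in the radical -/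
theorem nd_rad (h2 : (2 : K) = 0) {p₁ p₂ q₁ q₂ z₁ z₂ v : V K} (l : Ln p₁ p₂) (h11 : B p₁ q₁ = 1) (h22 : B p₂ q₂ = 1)
    (h12 : B p₁ q₂ = 0) (h21 : B p₂ q₁ = 0) (qz : Q K z₁ = 0) (a1 : B p₁ z₁ = 0) (a2 : B p₂ z₁ = 0)
    (b1 : B p₁ z₂ = 0) (b2 : B p₂ z₂ = 0) (hz : B z₁ z₂ ≠ 0) (c1 : B z₁ q₁ = 0) (c2 : B z₁ q₂ = 0)
    (v1 : B p₁ v = 0) (v2 : B p₂ v = 0) (v3 : B v q₁ = 0) (v4 : B v q₂ = 0) (v5 : B z₁ v = 0) (v6 : B v z₂ = 0) :
    ∃ d : K, v = d • sU K := by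
  obtain ⟨d, hd⟩ := isSquare_closed (Q K v)
  have s0 : ∀ u, B u (sU K) = 0 := fun u => (B_comm _ _).trans (B_sU h2 u)
  obtain ⟨c, hc⟩ := nd_plane h2 l qz a1 a2 (fun k => hz (geo_perp b1 b2 k)) (s' := v + d • sU K)
    (by rw [Q_add, Q_smul, Q_sU, polar_smul_right', show polar (Q K) v (sU K) = 0 from s0 v]
        linear_combination hd + d * d * h2)
    (by rw [geo_add_r, geo_smul_r, s0, v1, mul_zero, add_zero])
    (by rw [geo_add_r, geo_smul_r, s0, v2, mul_zero, add_zero])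
    (by rw [geo_add_r, geo_smul_r, s0, v5, mul_zero, add_zero])
  obtain ⟨α, β, e⟩ := Submodule.mem_span_pair.1 hc
  have e' : v = α • p₁ + β • p₂ + c • z₁ + d • sU K := by
    rw [e]; linear_combination (norm := module) (-h2) • (d • sU K)
  rw [e'] at v3 v4 v6
  simp only [geo_add_l, geo_smul_l, B_sU h2, h11, h22, h12, h21, b1, b2, c1, c2, mul_zero, add_zero, zero_add,
    mul_one] at v3 v4 v6
  exact ⟨d, by rw [e', v3, v4, (mul_eq_zero.1 v6).resolve_right hz, zero_smul, zero_smul, zero_smul, add_zero,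
    add_zero, zero_add]⟩

omit [IsAlgClosed K] in
theorem nd_an (h2 : (2 : K) = 0) (u v : V K) (w : W K) : gam u (gam v w) = gam v (gam u w) + B u v • w := by
  rw [← O7.gam_anti, add_comm, add_assoc, ← two_smul K, h2, zero_smul, add_zero]

omit [IsAlgClosed K] in
theorem nd_sU (h2 : (2 : K) = 0) (w : W K) : gam (sU K) w = w := by
  obtain ⟨c, hc⟩ := O7.scalar_of_comm (A := gam (sU K)) fun v w => by
    rw [nd_an h2, B_sU h2, zero_smul, add_zero]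
  have := O7.gam_sU_e0 (K := K)
  rw [hc] at this
  have c1 : c = 1 := smul_left_injective K O7.e0_ne_zero (this.trans (one_smul K _).symm)
  rw [hc, c1, one_smul]

/-- Partners lie in three different planes on `ℓ`: otherwise `[V, M] ≤ ℓ + ℓ' + ⟨s₁, s₂⟩` (`gen_nd`, `comm_top`). -/
theorem Ev0.three_pt (h : Ev0 M) (n : ¬ Dgn M) (l : DL M a y) : ∃ p₁ s₁ p₂ s₂ p₃ s₃, Pt M a y p₁ s₁ ∧
    Pt M a y p₂ s₂ ∧ Pt M a y p₃ s₃ ∧ B s₁ s₂ ≠ 0 ∧ B s₁ s₃ ≠ 0 ∧ B s₂ s₃ ≠ 0 := by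
  by_contra k
  push Not at k
  have key : ∃ s₁ s₂, ∀ p s, Pt M a y p s → s ∈ ln a y ⊔ ln s₁ s₂ := by
    have m : ∀ {p s p' s' : V K} {X : Submodule K (V K)}, Pt M a y p s → Pt M a y p' s' → B s s' = 0 → s ∈ X →
        s' ∈ ln a y ⊔ X := fun t t' e hX => by
      obtain ⟨c, hc⟩ := t.plane h.two l.1 t'.dl.1.qy t'.pa t'.py e
      exact Submodule.mem_sup.2 ⟨_, hc, _, Submodule.smul_mem _ c hX, sub_add_cancel _ _⟩
    by_cases k1 : ∃ p₁ s₁ p₂ s₂, Pt M a y p₁ s₁ ∧ Pt M a y p₂ s₂ ∧ B s₁ s₂ ≠ 0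
    · obtain ⟨p₁, s₁, p₂, s₂, t₁, t₂, e⟩ := k1
      refine ⟨s₁, s₂, fun p s t => ?_⟩
      by_cases e1 : B s₁ s = 0
      · exact m t₁ t e1 (geo_left _ _)
      · exact m t₂ t (k _ _ _ _ _ _ t₁ t₂ t e e1) (geo_right _ _)
    · push Not at k1
      by_cases k2 : ∃ p₁ s₁, Pt M a y p₁ s₁
      · obtain ⟨p₁, s₁, t₁⟩ := k2
        exact ⟨s₁, s₁, fun p s t => m t₁ t (k1 _ _ _ _ t₁ t) (geo_left _ _)⟩
      · exact ⟨0, 0, fun p s t => (k2 ⟨p, s, t⟩).elim⟩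
  obtain ⟨s₁, s₂, key⟩ := key
  obtain ⟨b, z, l', ko⟩ := h.exists_opp l
  have := h.comm_top (X := (ln a y ⊔ ln s₁ s₂) ⊔ ln b z) (h.gen_nd n l l' ko) (by
    rintro g (⟨p, s, m, hp, h1, h3, rfl⟩ | rfl)
    · refine (comm_eich_le p s).trans (le_sup_of_le_left (Submodule.span_le.2 (Set.pair_subset
        (Submodule.mem_sup_left hp) ?_)))
      by_cases hs : s ∈ ln a y
      · exact Submodule.mem_sup_left hs
      · exact key p s ⟨m, hp, h1, h3, hs⟩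
    · exact (comm_eich_le b z).trans le_sup_right)
  have h1 := Submodule.finrank_add_le_finrank_add_finrank (ln a y ⊔ ln s₁ s₂) (ln b z)
  have h3 := Submodule.finrank_add_le_finrank_add_finrank (ln a y) (ln s₁ s₂)
  rw [this, finrank_top, O7.finrank_V] at h1
  have := nd_fr a y
  have := nd_fr s₁ s₂
  have := nd_fr b z
  omega

/-- The fixed vector.  `W₀ = ker γaγy ⊓ ker γa'γy'` has dimension four, `W₀ ≅ Hom(ℓ, U)`, and `p ∧ s` fixes `φ` iff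
`det(φ p, u) = 0` (move to `a = sX 0`, `y = sX 1`, `a' = sY 0`, `y' = sY 1` by `exists_frame`, `Ev.conj`; `aw_wd`).  Here
`φ p_i = c_{i1} u₁ + c_{i2} u₂`, `s_j ≡ u_j²`, `B s s_j = det(u, u_j)²`, and the condition is written squared.  Then `M` fixes
`φ` (`gen_nd`, `Ev.fixW`).  (`gam sU = 1`.) -/
theorem Ev.no_phi (h : Ev M) (n : ¬ Dgn M) (l : DL M a y) {p₁ p₂ s₁ s₂ : V K} (e : ln p₁ p₂ = ln a y)
    (q₁ : Q K s₁ = 0) (q₂ : Q K s₂ = 0) (h₁ : B a s₁ = 0 ∧ B y s₁ = 0) (h₂ : B a s₂ = 0 ∧ B y s₂ = 0) (h₃ : B s₁ s₂ ≠ 0)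
    {c₁₁ c₁₂ c₂₁ c₂₂ : K} (hc : ¬ (c₁₁ = 0 ∧ c₁₂ = 0 ∧ c₂₁ = 0 ∧ c₂₂ = 0))
    (H : ∀ ξ₁ ξ₂ s, Pt M a y (ξ₁ • p₁ + ξ₂ • p₂) s →
      (ξ₁ * c₁₁ + ξ₂ * c₂₁) ^ 2 * B s s₁ = (ξ₁ * c₁₂ + ξ₂ * c₂₂) ^ 2 * B s s₂) : False := by
  have h2 := h.two
  have lp : Ln p₁ p₂ := l.1.of_eq e
  obtain ⟨b, z, l', ko⟩ := h.exists_opp l
  obtain ⟨r₁, r₂, lr, er, h11, h22, h12, h21, ew⟩ := lp.dual h2 l'.1
    ((kap_ne_iff lp).2 (by rw [e]; exact (kap_ne_iff l.1).1 ko))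
  have m1 : p₁ ∈ ln a y := e ▸ geo_left p₁ p₂
  have m2 : p₂ ∈ ln a y := e ▸ geo_right p₁ p₂
  -- the projection to the complement
  have pj : ∀ s, B a s = 0 → B y s = 0 → ∃ s', s = s' + B s r₁ • p₁ + B s r₂ • p₂ ∧ Q K s' = Q K s ∧ B p₁ s' = 0 ∧
      B p₂ s' = 0 ∧ B s' r₁ = 0 ∧ B s' r₂ = 0 ∧ ∀ u, B p₁ u = 0 → B p₂ u = 0 → B s' u = B s u := fun s k1 k2 => by
    have k3 := geo_perp k1 k2 m1
    have k4 := geo_perp k1 k2 m2
    refine ⟨s + B s r₁ • p₁ + B s r₂ • p₂, ?_, ?_, ?_, ?_, ?_, ?_, fun u u1 u2 => ?_⟩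
    · linear_combination (norm := module) (-h2) • (B s r₁ • p₁ + B s r₂ • p₂)
    · rw [Q_add_smul_of_singular lp.qy, Q_add_smul_of_singular lp.qa k3]
      exact (geo_add_r _ _ _).trans (by rw [geo_smul_r, k4, lp.symm.p, mul_zero, add_zero])
    · simp only [geo_add_r, geo_smul_r, k3, B_self h2, lp.p, mul_zero, add_zero]
    · simp only [geo_add_r, geo_smul_r, k4, B_self h2, lp.symm.p, mul_zero, add_zero]
    · simp only [geo_add_l, geo_smul_l, h11, h21]; linear_combination B s r₁ * h2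
    · simp only [geo_add_l, geo_smul_l, h12, h22]; linear_combination B s r₂ * h2
    · simp only [geo_add_l, geo_smul_l, u1, u2, mul_zero, add_zero]
  obtain ⟨z₁, -, y1, a1, a2, a3, a4, a5⟩ := pj s₁ h₁.1 h₁.2
  obtain ⟨z₂, -, y2, b1, b2, b3, b4, b5⟩ := pj s₂ h₂.1 h₂.2
  rw [q₁] at y1
  rw [q₂] at y2
  have hβ : B z₁ z₂ = B s₁ s₂ := by
    rw [a5 z₂ b1 b2, B_comm, b5 s₁ (geo_perp h₁.1 h₁.2 m1) (geo_perp h₁.1 h₁.2 m2), B_comm]
  rw [← hβ] at h₃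
  have an := nd_an (K := K) h2
  have cm : ∀ {u v : V K}, B u v = 0 → ∀ w, gam u (gam v w) = gam v (gam u w) := fun k w => by
    rw [an, k, zero_smul, add_zero]
  have sq : ∀ {u : V K}, Q K u = 0 → ∀ w, gam u (gam u w) = 0 := fun k w => by rw [O7.gam_gam, k, zero_smul]
  obtain ⟨ε, ε0, e1, e2, e3⟩ : ∃ ε : W K, ε ≠ 0 ∧ gam p₁ ε = 0 ∧ gam p₂ ε = 0 ∧ gam z₁ ε = 0 := by
    have step : ∀ {u : V K} (P : W K → Prop), (∃ w ≠ 0, P w) → Q K u = 0 → (∀ w, P w → P (gam u w)) →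
        ∃ w ≠ 0, P w ∧ gam u w = 0 := fun {u} P x0 qu hu => by
      obtain ⟨w, w0, hw⟩ := x0
      by_cases k : gam u w = 0
      · exact ⟨w, w0, hw, k⟩
      · exact ⟨_, k, hu w hw, sq qu w⟩
    obtain ⟨ε, ε0, ⟨⟨-, e1⟩, e2⟩, e3⟩ := step _ (step _ (step (fun _ => True) ⟨_, O7.e0_ne_zero, trivial⟩ lp.qa
      fun _ _ => trivial) lp.qy fun w hw => ⟨trivial, by rw [cm lp.p, hw.2, map_zero]⟩) y1 fun w hw =>
      ⟨⟨trivial, by rw [cm a1, hw.1.2, map_zero]⟩, by rw [cm a2, hw.2, map_zero]⟩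
    exact ⟨ε, ε0, e1, e2, e3⟩
  obtain ⟨ρ, hρ⟩ := isSquare_closed (B z₁ z₂)
  have ρ0 : ρ ≠ 0 := fun k => h₃ (by rw [hρ, k, mul_zero])
  have f1 : gam p₁ (gam z₂ ε) = 0 := by rw [cm b1, e1, map_zero]
  have f2 : gam p₂ (gam z₂ ε) = 0 := by rw [cm b2, e2, map_zero]
  have f3 : gam z₁ (gam z₂ ε) = B z₁ z₂ • ε := by rw [an, e3, map_zero, zero_add]
  obtain ⟨w, hw⟩ : ∃ w, w = gam r₁ ((ρ * c₁₁) • ε + c₁₂ • gam z₂ ε) + gam r₂ ((ρ * c₂₁) • ε + c₂₂ • gam z₂ ε) :=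
    ⟨_, rfl⟩
  have g1 : gam p₁ w = (ρ * c₁₁) • ε + c₁₂ • gam z₂ ε := by
    rw [hw, map_add, an p₁, an p₁, h11, h12]
    simp only [map_add, map_smul, e1, f1, smul_zero, add_zero, map_zero, zero_smul, one_smul, zero_add]
  have g2 : gam p₂ w = (ρ * c₂₁) • ε + c₂₂ • gam z₂ ε := by
    rw [hw, map_add, an p₂, an p₂, h21, h22]
    simp only [map_add, map_smul, e2, f2, smul_zero, add_zero, map_zero, zero_smul, one_smul, zero_add]
  have w0 : w = 0 := by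
    refine h.fixW (h.gen_nd n l l' ko) ?_
    rintro g (⟨p, s, m, hp, h4, h5, rfl⟩ | rfl)
    · rw [aw_wd h2 m.1, cm m.1.p, add_eq_left]
      obtain ⟨ξ₁, ξ₂, rfl⟩ := Submodule.mem_span_pair.1 (e.ge hp)
      obtain ⟨s', es, y3, d1, d2, d3, d4, d5⟩ := pj s h4 h5
      rw [m.1.qy] at y3
      have k1 : gam (ξ₁ • p₁ + ξ₂ • p₂) w =
          (ρ * (ξ₁ * c₁₁ + ξ₂ * c₂₁)) • ε + (ξ₁ * c₁₂ + ξ₂ * c₂₂) • gam z₂ ε := by
        rw [map_add, map_smul, map_smul, LinearMap.add_apply, LinearMap.smul_apply, LinearMap.smul_apply, g1, g2]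
        module
      have k2 : (ξ₁ * c₁₁ + ξ₂ * c₂₁) ^ 2 * B s' z₁ = (ξ₁ * c₁₂ + ξ₂ * c₂₂) ^ 2 * B s' z₂ := by
        have u1 := geo_perp h4 h5 m1
        have u2 := geo_perp h4 h5 m2
        rw [d5 z₁ a1 a2, d5 z₂ b1 b2, B_comm s, B_comm s, a5 s u1 u2, b5 s u1 u2]
        by_cases hs : s ∈ ln a y
        · rw [B_comm s₁, B_comm s₂, geo_perp h₁.1 h₁.2 hs, geo_perp h₂.1 h₂.2 hs, mul_zero, mul_zero]
        · rw [B_comm s₁, B_comm s₂]
          exact H _ _ s ⟨m, hp, h4, h5, hs⟩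
      have hi := inv_mul_cancel₀ h₃
      obtain ⟨D, hD⟩ := nd_rad h2 lp h11 h22 h12 h21 y1 a1 a2 b1 b2 h₃ a3 a4
        (v := s' + ((B z₁ z₂)⁻¹ * B s' z₂) • z₁ + ((B z₁ z₂)⁻¹ * B s' z₁) • z₂)
        (by simp only [geo_add_r, geo_smul_r, d1, a1, b1, mul_zero, add_zero])
        (by simp only [geo_add_r, geo_smul_r, d2, a2, b2, mul_zero, add_zero])
        (by simp only [geo_add_l, geo_smul_l, d3, a3, b3, mul_zero, add_zero])
        (by simp only [geo_add_l, geo_smul_l, d4, a4, b4, mul_zero, add_zero])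
        (by simp only [geo_add_r, geo_smul_r, B_self h2, B_comm z₁ s']
            linear_combination B s' z₁ * hi + B s' z₁ * h2)
        (by simp only [geo_add_l, geo_smul_l, B_self h2]
            linear_combination B s' z₂ * hi + B s' z₂ * h2)
      generalize hA : (B z₁ z₂)⁻¹ * B s' z₂ = A at hD
      generalize hC : (B z₁ z₂)⁻¹ * B s' z₁ = C at hD
      have es' : s' = A • z₁ + C • z₂ + D • sU K := by
        rw [← hD]; linear_combination (norm := module) (-h2) • (A • z₁ + C • z₂)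
      have k3 : D ^ 2 = A * C * B z₁ z₂ := by
        rw [es', Q_add, Q_add, Q_smul, Q_smul, Q_smul, y1, y2, Q_sU, polar_smul_left', polar_smul_right',
          polar_smul_right', polar_comm _ _ (sU K), show polar (Q K) (sU K) _ = 0 from B_sU h2 _] at y3
        linear_combination y3 - A * C * B z₁ z₂ * h2
      generalize ξ₁ * c₁₁ + ξ₂ * c₂₁ = X at k1 k2
      generalize ξ₁ * c₁₂ + ξ₂ * c₂₂ = Y at k1 k2
      have k4 : X ^ 2 * C = Y ^ 2 * A := by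
        rw [← hA, ← hC]; linear_combination (B z₁ z₂)⁻¹ * k2
      have k5 : ρ * X * D + Y * A * B z₁ z₂ = 0 := pow_eq_zero_iff two_ne_zero |>.1 (by
        linear_combination X ^ 2 * D ^ 2 * hρ.symm + B z₁ z₂ * X ^ 2 * k3 + A * B z₁ z₂ ^ 2 * k4 +
          (ρ * X * D * Y * A * B z₁ z₂ + Y ^ 2 * A ^ 2 * B z₁ z₂ ^ 2) * h2)
      have k6 : ρ * X * C + Y * D = 0 := pow_eq_zero_iff two_ne_zero |>.1 (by
        linear_combination X ^ 2 * C ^ 2 * hρ.symm + Y ^ 2 * k3 + C * B z₁ z₂ * k4 +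
          (ρ * X * C * Y * D + Y ^ 2 * A * C * B z₁ z₂) * h2)
      rw [k1, es, es']
      simp only [map_add, map_smul, LinearMap.add_apply, LinearMap.smul_apply, e1, e2, e3, f1, f2, f3, sq y2,
        nd_sU h2, smul_zero, add_zero, zero_add]
      linear_combination (norm := module) k5 • ε + k6 • gam z₂ ε
    · rw [ew, aw_wd h2 (lr.smul ((kap_ne_iff lp).2 (by rw [e]; exact (kap_ne_iff l.1).1 ko))), add_eq_left, hw,
        map_smul, LinearMap.smul_apply, map_smul, map_add, sq lr.qy, add_zero, cm lr.symm.p, sq lr.qa, smul_zero]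
  rw [w0, map_zero] at g1 g2
  have li : ∀ x y : K, 0 = (ρ * x) • ε + y • gam z₂ ε → x = 0 ∧ y = 0 := fun x y k => by
    have k1 := congrArg (gam z₁) k
    rw [map_zero, map_add, map_smul, map_smul, e3, f3, smul_zero, zero_add, smul_smul, eq_comm, smul_eq_zero] at k1
    have y0 := (mul_eq_zero.1 (k1.resolve_right ε0)).resolve_right h₃
    rw [y0, zero_smul, add_zero, eq_comm, smul_eq_zero] at k
    exact ⟨(mul_eq_zero.1 (k.resolve_right ε0)).resolve_left ρ0, y0⟩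
  exact hc ⟨(li _ _ g1).1, (li _ _ g1).2, li _ _ g2⟩

/-- to each type there is a type with another plane -/
theorem Ev0.exists_ne_pt (h : Ev0 M) (n : ¬ Dgn M) (l : DL M a y) (t : Pt M a y p s) :
    ∃ p' s', Pt M a y p' s' ∧ B s s' ≠ 0 := by
  obtain ⟨p₁, s₁, p₂, s₂, -, -, t₁, t₂, -, e, -, -⟩ := h.three_pt n l
  by_cases k1 : B s s₁ = 0
  · refine ⟨p₂, s₂, t₂, fun k2 => e ?_⟩
    obtain ⟨c, hc⟩ := t.plane h.two l.1 t₁.dl.1.qy t₁.pa t₁.py k1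
    rw [nd_B hc t₂.pa t₂.py, k2, mul_zero]
  · exact ⟨p₁, s₁, t₁, k1⟩

/-- Rank one `φ`: to each type there is an opposite type (apply `no_phi` with `p₁ = p`, `s₁ = s`, only `c₂₁ ≠ 0`). -/
theorem Ev.exists_opp_pt (h : Ev M) (n : ¬ Dgn M) (l : DL M a y) (t : Pt M a y p s) :
    ∃ p' s', Pt M a y p' s' ∧ p' ∉ K ∙ p ∧ B s s' ≠ 0 := by
  by_contra k
  push Not at k
  obtain ⟨p₂, -, -, e⟩ := l.1.exists_basis h.two t.mem t.dl.1.ne
  obtain ⟨p', s₂, t₂, h₃⟩ := h.toEv0.exists_ne_pt n l t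
  refine h.no_phi n l e t.dl.1.qy t₂.dl.1.qy ⟨t.pa, t.py⟩ ⟨t₂.pa, t₂.py⟩ h₃ (c₁₁ := 0) (c₁₂ := 0) (c₂₁ := 1)
    (c₂₂ := 0) (fun k => one_ne_zero k.2.2.1) fun ξ₁ ξ₂ s' t' => ?_
  by_cases k1 : ξ₂ = 0
  · rw [k1]; ring
  · rw [B_comm s' s, k _ _ t' fun k2 => ?_]
    · ring
    · obtain ⟨c, hc⟩ := Submodule.mem_span_singleton.1 k2
      exact k1 ((l.1.of_eq e).li (ξ₁ - c) ξ₂ (by linear_combination (norm := module) -hc)).2

omit [IsAlgClosed K] in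
/-- the commutator of two partners -/
theorem Pt.comm (h2 : (2 : K) = 0) (l : Ln a y) {p' : V K} (t : Pt M a y p s) (t' : Pt M a y p' s') :
    wd p (B s s' • p') ∈ M := by
  rw [← t.dl.1.comm_eq h2 t'.dl.1 (l.perp t.mem t'.mem) (geo_perp t'.pa t'.py t.mem)
    ((B_comm _ _).trans (geo_perp t.pa t.py t'.mem)), commutatorElement_def]
  exact M.mul_mem (M.mul_mem (M.mul_mem t.dl.2 t'.dl.2) (M.inv_mem t.dl.2)) (M.inv_mem t'.dl.2)

omit [IsAlgClosed K] in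
theorem Ln.of_notMem (l : Ln a y) {p' : V K} (hp : p ∈ ln a y) (p0 : p ≠ 0) (hp' : p' ∈ ln a y) (e : p' ∉ K ∙ p) :
    Ln p p' := by
  refine ⟨l.sing hp, l.sing hp', l.perp hp hp', fun α β k => ?_⟩
  have hβ : β = 0 := by
    by_contra hβ
    refine e (Submodule.mem_span_singleton.2 ⟨-(β⁻¹ * α), ?_⟩)
    have := inv_mul_cancel₀ hβ
    linear_combination (norm := module) (-β⁻¹) • k + this • p'
  rw [hβ, zero_smul, add_zero] at k
  exact ⟨(smul_eq_zero.1 k).resolve_right p0, hβ⟩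

/-- Each type is one `k`-class: pair with an opposite type. -/
theorem Ev.one_class (h : Ev M) (n : ¬ Dgn M) (l : DL M a y) {k : Subfield K}
    (hk : ∀ a y, DL M a y → ∀ c, wd a (c • y) ∈ M ↔ c ∈ k) (t : Pt M a y p s) (t' : Pt M a y p s') {c : K}
    (e : s' - c • s ∈ ln a y) : c ∈ k := by
  obtain ⟨p', s'', t'', h1, h3⟩ := h.exists_opp_pt n l t
  refine (hk p (B s s'' • p') ⟨(l.1.of_notMem t.mem t.dl.1.ne t''.mem h1).smul h3, t.comm h.two l.1 t''⟩ c).1 ?_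
  rw [smul_smul, ← nd_B e t''.pa t''.py]
  exact t'.comm h.two l.1 t'' 

end Cfsg.Lib.S6Q
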