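import Cfsg.Agent.Lib.S6Q.NDa

/-!
# The nondegenerate case, part two (notation of `NDa`)
-/

set_option autoImplicit false

namespace Cfsg.Lib.S6Q

open scoped MatrixGroups Matrix commutatorElement
open QuadraticMap Module Cfsg.Lib.Orth Cfsg.Lib.Asch
open Cfsg.Lib.O7 (V W Q N I7 Spin phi act gam sU dm fx stabS stabV dgV)

variable {K : Type*} [Field K] [IsAlgClosed K] {M : Subgroup (O (Q K))} {a y b z s s' p u : V K} {g t h : O (Q K)}
  {E : Type*} [Field E] [Fintype E]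

omit [IsAlgClosed K] in
theorem Pt.rebase (t : Pt M a y p s) (e : ln b z = ln a y) : Pt M b z p s :=
  ⟨t.dl, e ▸ t.mem, B_ln t.pa t.py (e ▸ mem_ln_l b z), B_ln t.pa t.py (e ▸ mem_ln_r b z), e ▸ t.ni⟩

omit [IsAlgClosed K] in
theorem Pt.at (l : Ln a y) (q : Q K u = 0) (pa : B a u = 0) (py : B y u = 0) (ni : u ∉ ln a y) (m : wd a u ∈ M) :
    Pt M a y a u :=
  ⟨⟨⟨l.qa, q, pa, fun σ τ e => by
    have : τ = 0 := by
      by_contra t0
      refine ni (Submodule.mem_span_pair.2 ⟨-(τ⁻¹ * σ), 0, ?_⟩)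
      have : u = τ⁻¹ • τ • u := by rw [smul_smul, inv_mul_cancel₀ t0, one_smul]
      linear_combination (norm := module) -τ⁻¹ • e - this
    exact ⟨by simpa [this, l.ne] using e, this⟩⟩, m⟩, mem_ln_l a y, pa, py, ni⟩

theorem Ev.ndb_other (h : Ev M) (n : ¬ Dgn M) (l : DL M a y) : ∃ b w, Pt M a y b w ∧ b ∉ K ∙ a := by
  obtain ⟨b, w, -, -, -, -, t, -⟩ := h.three_pt n l
  by_cases e : b ∈ K ∙ a
  · obtain ⟨b', w', t', e', -⟩ := h.exists_opp_pt n l t
    obtain ⟨c, rfl⟩ := Submodule.mem_span_singleton.1 e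
    have c0 : c ≠ 0 := fun c0 => t.dl.1.ne (by rw [c0, zero_smul])
    exact ⟨b', w', t', by rwa [Submodule.span_singleton_smul_eq c0.isUnit] at e'⟩
  · exact ⟨b, w, t, e⟩

omit [IsAlgClosed K] in
/-- A partner `b ∧ w` fixes `a` and moves `v ∈ M(a)` by a singular vector of `M(a)`. -/
theorem Pt.move (h2 : (2 : K) = 0) (l : Ln a y) {w v : V K} (t : Pt M a y b w) (hv : B a v = 0) (m : wd a v ∈ M)
    (e : B b v ≠ 0) : Pt M a y a (B w v • b + B b v • w) := by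
  have ab : B a b = 0 := l.perp (mem_ln_l a y) t.mem
  have yb : B y b = 0 := l.perp (mem_ln_r a y) t.mem
  have fa : (wd b w).1 a = a := by
    rw [t.dl.1.apply h2, (B_comm w a).trans t.pa, (B_comm b a).trans ab]
    simp
  have m' := M.mul_mem (M.mul_mem t.dl.2 m) (M.inv_mem t.dl.2)
  rw [conj_eich, fa, t.dl.1.apply h2] at m'
  have pa : B a (B w v • b + B b v • w) = 0 := by rw [geo_add_r, geo_smul_r, geo_smul_r, ab, t.pa]; simp
  refine Pt.at l ?_ pa (by rw [geo_add_r, geo_smul_r, geo_smul_r, yb, t.py]; simp) (fun hm => t.ni ?_) ?_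
  · exact t.dl.1.sing (Submodule.mem_span_pair.2 ⟨_, _, rfl⟩)
  · have := Submodule.smul_mem _ (B b v)⁻¹ (sub_mem hm (Submodule.smul_mem _ (B w v) t.mem))
    rwa [add_sub_cancel_left, smul_smul, inv_mul_cancel₀ e, one_smul] at this
  · have := (Ma M l.qa).sub_mem (x := v + B w v • b + B b v • w) (y := v)
      ⟨by rw [add_assoc, geo_add_r, hv, pa, add_zero], m'⟩ ⟨hv, m⟩
    rw [add_assoc, add_sub_cancel_left] at this
    exact this.2

/-- The nonzero `B y v`, `v ∈ M(a)`, lie in one `k`-class. -/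
theorem Ev.ndb_class (h : Ev M) (n : ¬ Dgn M) (l : DL M a y) {k : Subfield K}
    (hk : ∀ a y, DL M a y → ∀ c, wd a (c • y) ∈ M ↔ c ∈ k) {v v' : V K} (hv : B a v = 0) (m : wd a v ∈ M)
    (hv' : B a v' = 0) (m' : wd a v' ∈ M) (e : B y v ≠ 0) : B y v' / B y v ∈ k := by
  by_cases e' : B y v' = 0
  · rw [e', zero_div]
    exact k.zero_mem
  obtain ⟨b, w, t, hb⟩ := h.ndb_other n l
  obtain ⟨x₁, x₂, rfl⟩ := Submodule.mem_span_pair.1 t.mem
  have x0 : x₂ ≠ 0 := fun x0 => hb (Submodule.mem_span_singleton.2 ⟨x₁, by simp [x0]⟩)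
  have bv : ∀ {v}, B a v = 0 → B (x₁ • a + x₂ • y) v = x₂ * B y v := fun hv => by
    rw [geo_add_l, geo_smul_l, geo_smul_l, hv, mul_zero, zero_add]
  refine h.one_class n l hk (t.move h.two l.1 hv m (by rw [bv hv]; exact mul_ne_zero x0 e))
    (t.move h.two l.1 hv' m' (by rw [bv hv']; exact mul_ne_zero x0 e')) ?_
  convert Submodule.smul_mem _ (B w v' - B y v' / B y v * B w v) t.mem using 1
  rw [bv hv, bv hv']
  match_scalars <;> field_simp
  ring

theorem Ev.ndb_core (h : Ev M) (n : ¬ Dgn M) (l : DL M a y) (t : Pt M a y a s) (t' : Pt M a y a s') :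
    B s s' = 0 := by
  by_contra e
  have h2 := h.two
  obtain ⟨k, -, hk⟩ := h.field_nd n
  have ty : Pt M a s a y := Pt.at t.dl.1 l.1.qy l.1.p ((B_comm s y).trans t.py) (fun hy => by
    obtain ⟨α, β, e1⟩ := Submodule.mem_span_pair.1 hy
    have b0 : β ≠ 0 := fun b0 => one_ne_zero (l.1.li (-α) 1 (by rw [← e1, b0]; module)).2
    refine t.ni (Submodule.mem_span_pair.2 ⟨-(β⁻¹ * α), β⁻¹, ?_⟩)
    have : s = β⁻¹ • β • s := by rw [smul_smul, inv_mul_cancel₀ b0, one_smul]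
    linear_combination (norm := module) -β⁻¹ • e1 - this) l.2
  obtain ⟨u, l0, yu⟩ : ∃ u, DL M a u ∧ B u y ≠ 0 := by
    obtain ⟨b, w, tb, hb, yw⟩ := h.exists_opp_pt n t.dl ty
    have yb : B b y = 0 := B_ln ty.pa ty.py tb.mem
    have bs : B b s' ≠ 0 := by
      obtain ⟨x₁, x₂, rfl⟩ := Submodule.mem_span_pair.1 tb.mem
      rw [geo_add_l, geo_smul_l, geo_smul_l, t'.pa, mul_zero, zero_add]
      exact mul_ne_zero (fun x0 => hb (Submodule.mem_span_singleton.2 ⟨x₁, by simp [x0]⟩)) e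
    refine ⟨_, (tb.move h2 t.dl.1 t'.pa t'.dl.2 bs).dl, ?_⟩
    rw [geo_add_l, geo_smul_l, geo_smul_l, yb, mul_zero, zero_add, B_comm w]
    exact mul_ne_zero bs yw
  have col : ∀ {b w}, Pt M a y b w → ∃ r, Pt M a y a r ∧ B u r = 0 ∧ ∃ c : K, c ≠ 0 ∧ r - c • w ∈ ln a y := by
    intro b w tb
    obtain ⟨r, tr, c, c0, hc⟩ : ∃ r, Pt M a y a r ∧ ∃ c : K, c ≠ 0 ∧ r - c • w ∈ ln a y := by
      by_cases e1 : B b u = 0
      · obtain ⟨x₁, x₂, rfl⟩ := Submodule.mem_span_pair.1 tb.mem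
        rw [geo_add_l, geo_smul_l, geo_smul_l, l0.1.p, mul_zero, zero_add, B_comm y] at e1
        have x2 := (mul_eq_zero.1 e1).resolve_right yu
        rw [x2, zero_smul, add_zero] at tb
        have x1 : x₁ ≠ 0 := fun x1 => tb.dl.1.ne (by rw [x1, zero_smul])
        refine ⟨x₁ • w, Pt.at l.1 (by rw [Q_smul, tb.dl.1.qy, mul_zero]) (by rw [geo_smul_r, tb.pa, mul_zero])
          (by rw [geo_smul_r, tb.py, mul_zero]) (fun hm => tb.ni ((Submodule.smul_mem_iff _ x1).1 hm)) ?_, x₁, x1, by simp⟩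
        rw [wd, ← eich_smul_left l.1.qa tb.pa]
        exact tb.dl.2
      · exact ⟨_, tb.move h2 l.1 l0.1.p l0.2 e1, _, e1, by
          rw [add_sub_cancel_right]
          exact Submodule.smul_mem _ _ tb.mem⟩
    have m := (hk a y l _).2 (h.ndb_class n l0 hk l.1.p l.2 tr.pa tr.dl.2 yu)
    have ym : (B u r / B u y) • y ∈ ln a y := Submodule.smul_mem _ _ (mem_ln_r a y)
    have ay : B a ((B u r / B u y) • y) = 0 := l.1.perp (mem_ln_l a y) ym
    refine ⟨r + (B u r / B u y) • y, Pt.at l.1 ?_ (by rw [geo_add_r, tr.pa, ay, add_zero])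
      (by rw [geo_add_r, tr.py, l.1.perp (mem_ln_r a y) ym, add_zero]) (fun hm => tr.ni ((add_mem_cancel_right ym).1 hm))
      ((Ma M l.1.qa).add_mem (x := r) ⟨tr.pa, tr.dl.2⟩ ⟨ay, m⟩).2, ?_, c, c0, ?_⟩
    · rw [Q_add, tr.dl.1.qy, l.1.sing ym, polar_comm, zero_add, zero_add]
      exact B_ln tr.pa tr.py ym
    · rw [geo_add_r, geo_smul_r, div_mul_cancel₀ _ yu]
      linear_combination B u r * h2
    · rw [add_sub_right_comm]
      exact add_mem hc ym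
  obtain ⟨p₁, s₁, p₂, s₂, p₃, s₃, t₁, t₂, t₃, e₁, e₂, e₃⟩ := h.three_pt n l
  have ne : ∀ {b w b' w' r r' : V K} {c c' : K}, Pt M a y b w → Pt M a y b' w' → B w w' ≠ 0 → Pt M a y a r' → c ≠ 0 →
      r - c • w ∈ ln a y → c' ≠ 0 → r' - c' • w' ∈ ln a y → B r r' ≠ 0 := fun t t' e tr c0 hc c0' hc' => by
    rw [nd_B hc tr.pa tr.py, B_comm, nd_B hc' t.pa t.py, B_comm]
    exact mul_ne_zero c0 (mul_ne_zero c0' e)
  obtain ⟨r₁, T₁, u₁, c₁, n₁, f₁⟩ := col t₁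
  obtain ⟨r₂, T₂, u₂, c₂, n₂, f₂⟩ := col t₂
  obtain ⟨r₃, T₃, u₃, c₃, n₃, f₃⟩ := col t₃
  have b₁ := ne t₁ t₂ e₁ T₂ n₁ f₁ n₂ f₂
  have b₂ := ne t₁ t₃ e₂ T₃ n₁ f₁ n₃ f₃
  have b₃ := ne t₂ t₃ e₃ T₃ n₂ f₂ n₃ f₃
  have b₁' : B r₂ r₁ ≠ 0 := by rwa [B_comm]
  have k₁ := (hk _ _ T₁.dl _).2 (h.ndb_class n T₂.dl hk T₁.pa T₁.dl.2 T₃.pa T₃.dl.2 b₁')
  have k₂ := (hk _ _ T₂.dl _).2 (h.ndb_class n T₁.dl hk T₂.pa T₂.dl.2 T₃.pa T₃.dl.2 b₁)
  obtain ⟨α, hα⟩ : ∃ α, α = B r₂ r₃ / B r₂ r₁ := ⟨_, rfl⟩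
  obtain ⟨β, hβ⟩ : ∃ β, β = B r₁ r₃ / B r₁ r₂ := ⟨_, rfl⟩
  rw [← hα] at k₁
  rw [← hβ] at k₂
  rw [eq_div_iff b₁', B_comm r₂ r₁] at hα
  rw [eq_div_iff b₁] at hβ
  have hv := (Ma M l.1.qa).add_mem ((Ma M l.1.qa).add_mem (x := α • r₁) (y := β • r₂)
    ⟨by rw [geo_smul_r, T₁.pa, mul_zero], k₁⟩ ⟨by rw [geo_smul_r, T₂.pa, mul_zero], k₂⟩) (y := r₃) ⟨T₃.pa, T₃.dl.2⟩
  have vB : ∀ x, B x (α • r₁ + β • r₂ + r₃) = α * B x r₁ + β * B x r₂ + B x r₃ := fun x => by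
    rw [geo_add_r, geo_add_r, geo_smul_r, geo_smul_r]
  have vQ : Q K (α • r₁ + β • r₂ + r₃) = α * B r₁ r₃ := by
    rw [Q_add, Q_add, Q_smul, Q_smul, T₁.dl.1.qy, T₂.dl.1.qy, T₃.dl.1.qy, polar_add_left, polar_smul_left',
      polar_smul_left', polar_smul_left', polar_smul_right']
    linear_combination -β * hα + β * (α * B r₁ r₂) * h2
  have v1 := vB r₁
  have v2 := vB r₂
  have v3 := vB y
  have v4 := vB u
  rw [B_self h2] at v1 v2
  rw [T₁.py, T₂.py, T₃.py] at v3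
  rw [u₁, u₂, u₃] at v4
  generalize α • r₁ + β • r₂ + r₃ = v at hv vQ v1 v2 v3 v4
  obtain ⟨ρ, hρ⟩ := IsAlgClosed.exists_pow_nat_eq (Q K v) two_pos
  have Bρ : ∀ x, B x (v + ρ • sU K) = B x v := fun x => by
    rw [geo_add_r, geo_smul_r, B_comm x (sU K), B_sU h2, mul_zero, add_zero]
  obtain ⟨c, hc⟩ := T₁.plane h2 l.1 (s' := v + ρ • sU K) (by rw [Q_add_sU h2, hρ]; linear_combination Q K v * h2)
    ((Bρ a).trans hv.1) (by rw [Bρ, v3]; simp) (by rw [Bρ, v1]; linear_combination hβ + B r₁ r₃ * h2)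
  have c0 : c = 0 := by
    have := nd_B hc T₂.pa T₂.py
    rw [B_comm, Bρ, v2, B_comm r₂ r₁] at this
    exact (mul_eq_zero.1 (by linear_combination -this + hα + B r₂ r₃ * h2)).resolve_right b₁
  rw [c0, zero_smul, sub_zero] at hc
  obtain ⟨x₁, x₂, hx⟩ := Submodule.mem_span_pair.1 hc
  have x0 : x₂ = 0 := by
    have := Bρ u
    rw [← hx, geo_add_r, geo_smul_r, geo_smul_r, B_comm u a, l0.1.p, v4] at this
    exact (mul_eq_zero.1 (by linear_combination this)).resolve_right yu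
  have hs : B a (ρ • sU K) = 0 := by rw [geo_smul_r, B_comm, B_sU h2, mul_zero]
  have e4 : v = ρ • sU K + x₁ • a := by
    rw [x0] at hx
    linear_combination (norm := module) -hx - h2 • ρ • sU K
  have := h.nb a y ρ l (by rw [wd, ← eich_add_smul_self l.1.qa hs x₁, ← e4]; exact hv.2)
  rw [this, vQ] at hρ
  have a0 : α = 0 := (mul_eq_zero.1 (by linear_combination -hρ)).resolve_right b₂
  exact b₃ (by rw [← hα, a0, zero_mul])

/-- A point `p` of `ℓ` with two types.  (1) There is `s₀ ∈ M(p)` singular, not perpendicular to `ℓ`: with `e = p ∧ s`, an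
opposite type `e'` of `(p, s)` for `ℓ` conjugates `e` to `e · λ d`, and an opposite type `f` of `(p, ℓ)` for the line of `e`
conjugates `d` to `d · μ e`; both fix `p`; scaling by `k`, some `g ∈ M` fixing `p` maps the line of `e` to `ℓ`; `s₀ = g s'`.
(2) For singular `t ∈ M(p)` on a line `L = ⟨p, t⟩` and a partner `f = b ∧ w` of `L` with `b ≡ t`, `v ∈ M(p)`:
`f v - v ≡ B v t • w + B v w • t ∈ M(p)` is singular.  With `v = s₀`: every plane type `w` occurring for `ℓ` occurs at `p` (the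
column is full), and by `one_class` the nonzero `B v t`, `v ∈ M(p)`, lie in one `k`-class.  (3) Take `t₁, t₂, t₃ ∈ M(p)` in
three planes (`three_pt`), `ℓ = ⟨p, q⟩`; replace `t_i` by `t_i + (B t_i s₀ / B q s₀) q`.  The `B t_i t_j` lie in one class
`κ k`, so `v = κ⁻¹ (B₂₃ t₁ + B₁₃ t₂ + B₁₂ t₃) ∈ M(p)`; it is perpendicular to `p, q, s₀, t_i`, so `v = c sU + c' p`, `c ≠ 0`:
`Ev.nb`. -/
theorem Ev.no_two_types (h : Ev M) (n : ¬ Dgn M) (l : DL M a y) (t : Pt M a y p s) (t' : Pt M a y p s') :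
    B s s' = 0 := by
  obtain ⟨q, L, e, e'⟩ := l.1.exists_basis h.two t.mem t.dl.1.ne
  exact h.ndb_core n ⟨L, e ▸ l.2⟩ (t.rebase e') (t'.rebase e')

/-- Two points with the same plane: `{p | p ⊗ u² occurs} ∪ 0` is additive with `≥ |k|²` elements, the pairing with a type
`(p'', u'')`, `u'' ≠ u`, takes values in `k`, so a multiple of `p''` lies in it, against `no_two_types`. -/
theorem Ev.no_two_points (h : Ev M) (n : ¬ Dgn M) (l : DL M a y) {p' : V K} (t : Pt M a y p s) (t' : Pt M a y p' s')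
    (e : B s s' = 0) : p' ∈ K ∙ p := by
  have h2 := h.two
  obtain ⟨k, -, hk⟩ := h.field_nd n
  obtain ⟨b, w, tb, sw⟩ := h.exists_ne_pt n l t
  obtain ⟨q, L, e1, e2⟩ := l.1.exists_basis h2 tb.mem tb.dl.1.ne
  replace l : DL M b q := ⟨L, e1 ▸ l.2⟩
  replace t := t.rebase e2
  replace t' := t'.rebase e2
  replace tb := tb.rebase e2
  clear e1 e2
  obtain ⟨c, hc⟩ := t.plane h2 L t'.dl.1.qy t'.pa t'.py e
  have sw' := nd_B hc tb.pa tb.py
  obtain ⟨α, β, hs⟩ := Submodule.mem_span_pair.1 hc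
  obtain ⟨x₁, x₂, rfl⟩ := Submodule.mem_span_pair.1 t.mem
  obtain ⟨z₁, z₂, rfl⟩ := Submodule.mem_span_pair.1 t'.mem
  have kk : ∀ {x₁ x₂ : K} {s : V K}, Pt M b q (x₁ • b + x₂ • q) s → x₂ * B s w ∈ k := fun {x₁ x₂ s} t => by
    have m := t.comm h2 L tb
    have := L.basis h2 x₁ x₂ (B s w) 0
    rw [zero_smul, add_zero, mul_zero, zero_add] at this
    exact (hk _ _ l _).1 (this ▸ m)
  have two : ∀ {x γ : K}, wd b (x • s + γ • q) ∈ M → x = 0 := fun {x γ} m => by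
    by_contra x0
    have qm : γ • q ∈ ln b q := Submodule.smul_mem _ _ (mem_ln_r b q)
    have := h.no_two_types n l (Pt.at L (by
      rw [Q_add, Q_smul, t.dl.1.qy, L.sing qm, polar_smul_left', polar_comm,
        show polar (Q K) (γ • q) s = 0 from B_ln t.pa t.py qm]
      simp) (by rw [geo_add_r, geo_smul_r, t.pa, L.perp (mem_ln_l b q) qm]; simp)
      (by rw [geo_add_r, geo_smul_r, t.py, L.perp (mem_ln_r b q) qm]; simp)
      (fun hm => t.ni ((Submodule.smul_mem_iff _ x0).1 ((add_mem_cancel_right qm).1 hm))) m) tb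
    rw [geo_add_l, geo_smul_l, B_ln tb.pa tb.py qm, add_zero] at this
    exact mul_ne_zero x0 sw this
  have c0 : c ≠ 0 := fun c0 => t'.ni (by simpa [c0] using hc)
  have x0 : x₂ ≠ 0 := fun x0 => t.dl.1.ne (by
    have := t.dl.2
    rw [x0, zero_smul, add_zero, wd, eich_smul_left L.qa t.pa] at this
    rw [x0, two (x := x₁) (γ := 0) (by rwa [zero_smul, add_zero])]
    simp)
  have m := M.mul_mem ((hk _ _ t.dl _).2 (kk t')) ((hk _ _ t'.dl _).2 (kk t))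
  have n0 := mul_ne_zero (mul_ne_zero x0 sw) c0
  rw [sw'] at m
  have E : wd (x₁ • b + x₂ • q) ((z₂ * (c * B s w)) • s) * wd (z₁ • b + z₂ • q) ((x₂ * B s w) • s') =
      wd b ((z₂ * (c * B s w) * x₁ + x₂ * B s w * c * z₁) • s + (x₂ * B s w * (β * z₁ + α * z₂)) • q) := by
    have i1 := t.pa
    have i2 := t.py
    have i3 := L.p
    have i4 := (B_comm s b).trans i1
    have i5 := (B_comm s q).trans i2
    have i6 := (B_comm q b).trans i3
    have i7 := B_self h2 b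
    have i8 := B_self h2 q
    have i9 := B_self h2 s
    obtain rfl : s' = c • s + (α • b + β • q) := by rw [hs, add_sub_cancel]
    generalize B s w = κ
    refine O.ext fun v => ?_
    simp only [B] at i1 i2 i3 i4 i5 i6 i7 i8 i9
    rw [O.mul_apply, wd_apply h2 t.dl.1.qa (by simp [B, i1, i2]), wd_apply h2 t'.dl.1.qa (by simp [B, i1, i2, i3, i6, i7, i8]),
      wd_apply h2 L.qa (by simp [B, i1, i3])]
    simp only [B, polar_add_left, polar_add_right, polar_smul_left', polar_smul_right', i1, i2, i3, i4, i5, i6, i7, i8, i9,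
      Q_add, Q_smul, L.qa, L.qy, t.dl.1.qy]
    match_scalars <;> grind
  have := two (E ▸ m)
  refine Submodule.mem_span_singleton.2 ⟨z₂ / x₂, ?_⟩
  have e3 : x₁ * z₂ + x₂ * z₁ = 0 := mul_left_cancel₀ (mul_ne_zero sw c0) (by linear_combination this)
  match_scalars
  · field_simp
    linear_combination e3 - x₂ * z₁ * h2
  · field_simp

end Cfsg.Lib.S6Q
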